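import Mathlib

/-!
# Project BD (blocks of defect one, module-theoretic part): definitions and basic API

Representations are Mathlib `Representation F G V` (`= G →* (V →ₗ[F] V)`), restriction to a subgroup `N`
is `ρ.comp N.subtype`.  All "stable" notions are phrased with the trace map
`tr1 ρ σ ψ = ∑ g, σ g ∘ ψ ∘ ρ g⁻¹` : a map is *projective* (`IsProjHom`) if it is such a trace.
-/

set_option autoImplicit false

namespace Cfsg.Agent.Lib.helper7.BD

section defs

variable {F : Type*} [Field F] {G : Type*} [Group G]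
variable {V : Type*} [AddCommGroup V] [Module F V] {W : Type*} [AddCommGroup W] [Module F W]
variable {X : Type*} [AddCommGroup X] [Module F X]

/-- `f` is a homomorphism of representations (intertwines `ρ` and `σ`). -/
def IsHom (ρ : Representation F G V) (σ : Representation F G W) (f : V →ₗ[F] W) : Prop :=
  ∀ g : G, f ∘ₗ ρ g = σ g ∘ₗ f

/-- the two representations are isomorphic -/
def IsIso (ρ : Representation F G V) (σ : Representation F G W) : Prop :=
  ∃ e : V ≃ₗ[F] W, ∀ g : G, (e : V →ₗ[F] W) ∘ₗ ρ g = σ g ∘ₗ (e : V →ₗ[F] W)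

theorem IsHom.apply {ρ : Representation F G V} {σ : Representation F G W} {f : V →ₗ[F] W}
    (hf : IsHom ρ σ f) (g : G) (v : V) : f (ρ g v) = σ g (f v) :=
  LinearMap.congr_fun (hf g) v

theorem isHom_iff {ρ : Representation F G V} {σ : Representation F G W} {f : V →ₗ[F] W} :
    IsHom ρ σ f ↔ ∀ (g : G) (v : V), f (ρ g v) = σ g (f v) :=
  ⟨fun h g v => h.apply g v, fun h g => LinearMap.ext fun v => h g v⟩

theorem isHom_id (ρ : Representation F G V) : IsHom ρ ρ LinearMap.id := fun _ => rfl

theorem isHom_zero (ρ : Representation F G V) (σ : Representation F G W) : IsHom ρ σ 0 := fun g => by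
  rw [LinearMap.zero_comp, LinearMap.comp_zero]

theorem IsHom.comp {ρ : Representation F G V} {σ : Representation F G W} {τ : Representation F G X}
    {f : W →ₗ[F] X} {h : V →ₗ[F] W} (hf : IsHom σ τ f) (hh : IsHom ρ σ h) : IsHom ρ τ (f ∘ₗ h) := fun g => by
  rw [LinearMap.comp_assoc, hh g, ← LinearMap.comp_assoc, hf g, LinearMap.comp_assoc]

theorem IsHom.add {ρ : Representation F G V} {σ : Representation F G W} {f h : V →ₗ[F] W}
    (hf : IsHom ρ σ f) (hh : IsHom ρ σ h) : IsHom ρ σ (f + h) := fun g => by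
  rw [LinearMap.add_comp, LinearMap.comp_add, hf g, hh g]

theorem IsHom.neg {ρ : Representation F G V} {σ : Representation F G W} {f : V →ₗ[F] W}
    (hf : IsHom ρ σ f) : IsHom ρ σ (-f) := fun g => by
  rw [LinearMap.neg_comp, LinearMap.comp_neg, hf g]

theorem IsHom.sub {ρ : Representation F G V} {σ : Representation F G W} {f h : V →ₗ[F] W}
    (hf : IsHom ρ σ f) (hh : IsHom ρ σ h) : IsHom ρ σ (f - h) := by
  rw [sub_eq_add_neg]
  exact hf.add hh.neg

theorem IsHom.smul {ρ : Representation F G V} {σ : Representation F G W} {f : V →ₗ[F] W}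
    (hf : IsHom ρ σ f) (c : F) : IsHom ρ σ (c • f) := fun g => by
  rw [LinearMap.smul_comp, LinearMap.comp_smul, hf g]

theorem IsHom.sum {ρ : Representation F G V} {σ : Representation F G W} {ι : Type*} (s : Finset ι)
    (f : ι → V →ₗ[F] W) (hf : ∀ i ∈ s, IsHom ρ σ (f i)) : IsHom ρ σ (∑ i ∈ s, f i) := by
  classical
  induction s using Finset.induction_on with
  | empty => simpa using isHom_zero ρ σ
  | insert a s ha ih =>
    rw [Finset.sum_insert ha]
    exact (hf a (Finset.mem_insert_self a s)).add (ih fun i hi => hf i (Finset.mem_insert_of_mem hi))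

/-- restriction of a homomorphism to a subgroup -/
theorem IsHom.res {ρ : Representation F G V} {σ : Representation F G W} {f : V →ₗ[F] W}
    (hf : IsHom ρ σ f) (N : Subgroup G) : IsHom (ρ.comp N.subtype) (σ.comp N.subtype) f :=
  fun n => hf (n : G)

theorem IsIso.refl (ρ : Representation F G V) : IsIso ρ ρ := ⟨LinearEquiv.refl F V, fun _ => rfl⟩

theorem IsIso.symm {ρ : Representation F G V} {σ : Representation F G W} (h : IsIso ρ σ) : IsIso σ ρ := by
  obtain ⟨e, he⟩ := h
  refine ⟨e.symm, fun g => LinearMap.ext fun w => ?_⟩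
  apply e.injective
  have h1 := LinearMap.congr_fun (he g) (e.symm w)
  simp only [LinearMap.comp_apply, LinearEquiv.coe_coe, LinearEquiv.apply_symm_apply] at h1 ⊢
  exact h1.symm

theorem IsIso.trans {ρ : Representation F G V} {σ : Representation F G W} {τ : Representation F G X}
    (h : IsIso ρ σ) (h' : IsIso σ τ) : IsIso ρ τ := by
  obtain ⟨e, he⟩ := h
  obtain ⟨e', he'⟩ := h'
  refine ⟨e.trans e', fun g => LinearMap.ext fun v => ?_⟩
  have h1 := LinearMap.congr_fun (he g) v
  have h2 := LinearMap.congr_fun (he' g) (e v)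
  simp only [LinearMap.comp_apply, LinearEquiv.coe_coe, LinearEquiv.trans_apply] at h1 h2 ⊢
  rw [h1, h2]

theorem IsIso.res {ρ : Representation F G V} {σ : Representation F G W} (h : IsIso ρ σ) (N : Subgroup G) :
    IsIso (ρ.comp N.subtype) (σ.comp N.subtype) := by
  obtain ⟨e, he⟩ := h
  exact ⟨e, fun n => he (n : G)⟩

variable [Fintype G]

/-- the trace (transfer) map from the trivial subgroup: `ψ ↦ ∑ g, σ g ∘ ψ ∘ ρ g⁻¹` -/
noncomputable def tr1 (ρ : Representation F G V) (σ : Representation F G W) (ψ : V →ₗ[F] W) :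
    V →ₗ[F] W :=
  ∑ g : G, σ g ∘ₗ ψ ∘ₗ ρ g⁻¹

/-- `f` is a *projective* homomorphism: a trace from the trivial subgroup -/
def IsProjHom (ρ : Representation F G V) (σ : Representation F G W) (f : V →ₗ[F] W) : Prop :=
  ∃ ψ : V →ₗ[F] W, f = tr1 ρ σ ψ

theorem tr1_apply (ρ : Representation F G V) (σ : Representation F G W) (ψ : V →ₗ[F] W) (v : V) :
    tr1 ρ σ ψ v = ∑ g : G, σ g (ψ (ρ g⁻¹ v)) := by
  unfold tr1
  rw [LinearMap.sum_apply]
  rfl

theorem tr1_isHom (ρ : Representation F G V) (σ : Representation F G W) (ψ : V →ₗ[F] W) :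
    IsHom ρ σ (tr1 ρ σ ψ) := by
  rw [isHom_iff]
  intro h v
  rw [tr1_apply, tr1_apply, map_sum]
  symm
  refine Fintype.sum_equiv (Equiv.mulLeft h) _ _ fun g => ?_
  have e1 : ρ (h * g)⁻¹ (ρ h v) = ρ g⁻¹ v := by
    rw [← Module.End.mul_apply, ← map_mul]
    congr 2
    group
  rw [Equiv.coe_mulLeft, e1, map_mul, Module.End.mul_apply]

theorem tr1_add (ρ : Representation F G V) (σ : Representation F G W) (ψ ψ' : V →ₗ[F] W) :
    tr1 ρ σ (ψ + ψ') = tr1 ρ σ ψ + tr1 ρ σ ψ' := by
  unfold tr1
  rw [← Finset.sum_add_distrib]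
  refine Finset.sum_congr rfl fun g _ => ?_
  rw [LinearMap.add_comp, LinearMap.comp_add]

theorem tr1_smul (ρ : Representation F G V) (σ : Representation F G W) (c : F) (ψ : V →ₗ[F] W) :
    tr1 ρ σ (c • ψ) = c • tr1 ρ σ ψ := by
  unfold tr1
  rw [Finset.smul_sum]
  refine Finset.sum_congr rfl fun g _ => ?_
  rw [LinearMap.smul_comp, LinearMap.comp_smul]

theorem tr1_zero (ρ : Representation F G V) (σ : Representation F G W) : tr1 ρ σ 0 = 0 := by
  unfold tr1
  simp

theorem tr1_neg (ρ : Representation F G V) (σ : Representation F G W) (ψ : V →ₗ[F] W) :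
    tr1 ρ σ (-ψ) = - tr1 ρ σ ψ := by
  have := tr1_smul ρ σ (-1 : F) ψ
  simpa using this

theorem tr1_sub (ρ : Representation F G V) (σ : Representation F G W) (ψ ψ' : V →ₗ[F] W) :
    tr1 ρ σ (ψ - ψ') = tr1 ρ σ ψ - tr1 ρ σ ψ' := by
  rw [sub_eq_add_neg, tr1_add, tr1_neg, sub_eq_add_neg]

/-- composing a trace with a homomorphism on the left -/
theorem comp_tr1 {ρ : Representation F G V} {σ : Representation F G W} {τ : Representation F G X}
    {f : W →ₗ[F] X} (hf : IsHom σ τ f) (ψ : V →ₗ[F] W) : f ∘ₗ tr1 ρ σ ψ = tr1 ρ τ (f ∘ₗ ψ) := by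
  refine LinearMap.ext fun v => ?_
  rw [LinearMap.comp_apply, tr1_apply, tr1_apply, map_sum]
  refine Finset.sum_congr rfl fun g _ => ?_
  rw [hf.apply, LinearMap.comp_apply]

/-- composing a trace with a homomorphism on the right -/
theorem tr1_comp {ρ : Representation F G V} {σ : Representation F G W} {π : Representation F G X}
    {h : X →ₗ[F] V} (hh : IsHom π ρ h) (ψ : V →ₗ[F] W) : tr1 ρ σ ψ ∘ₗ h = tr1 π σ (ψ ∘ₗ h) := by
  refine LinearMap.ext fun v => ?_
  rw [LinearMap.comp_apply, tr1_apply, tr1_apply]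
  refine Finset.sum_congr rfl fun g _ => ?_
  rw [LinearMap.comp_apply, hh.apply]

theorem IsProjHom.isHom {ρ : Representation F G V} {σ : Representation F G W} {f : V →ₗ[F] W}
    (hf : IsProjHom ρ σ f) : IsHom ρ σ f := by
  obtain ⟨ψ, rfl⟩ := hf
  exact tr1_isHom ρ σ ψ

theorem isProjHom_zero (ρ : Representation F G V) (σ : Representation F G W) : IsProjHom ρ σ 0 :=
  ⟨0, (tr1_zero ρ σ).symm⟩

theorem IsProjHom.add {ρ : Representation F G V} {σ : Representation F G W} {f h : V →ₗ[F] W}
    (hf : IsProjHom ρ σ f) (hh : IsProjHom ρ σ h) : IsProjHom ρ σ (f + h) := by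
  obtain ⟨ψ, rfl⟩ := hf
  obtain ⟨ψ', rfl⟩ := hh
  exact ⟨ψ + ψ', (tr1_add ρ σ ψ ψ').symm⟩

theorem IsProjHom.neg {ρ : Representation F G V} {σ : Representation F G W} {f : V →ₗ[F] W}
    (hf : IsProjHom ρ σ f) : IsProjHom ρ σ (-f) := by
  obtain ⟨ψ, rfl⟩ := hf
  exact ⟨-ψ, (tr1_neg ρ σ ψ).symm⟩

theorem IsProjHom.sub {ρ : Representation F G V} {σ : Representation F G W} {f h : V →ₗ[F] W}
    (hf : IsProjHom ρ σ f) (hh : IsProjHom ρ σ h) : IsProjHom ρ σ (f - h) := by
  rw [sub_eq_add_neg]
  exact hf.add hh.neg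

theorem IsProjHom.smul {ρ : Representation F G V} {σ : Representation F G W} {f : V →ₗ[F] W}
    (hf : IsProjHom ρ σ f) (c : F) : IsProjHom ρ σ (c • f) := by
  obtain ⟨ψ, rfl⟩ := hf
  exact ⟨c • ψ, (tr1_smul ρ σ c ψ).symm⟩

/-- projective homomorphisms form a (two-sided) ideal : left composition -/
theorem IsProjHom.comp_left {ρ : Representation F G V} {σ : Representation F G W}
    {τ : Representation F G X} {h : V →ₗ[F] W} (hh : IsProjHom ρ σ h) {f : W →ₗ[F] X}
    (hf : IsHom σ τ f) : IsProjHom ρ τ (f ∘ₗ h) := by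
  obtain ⟨ψ, rfl⟩ := hh
  exact ⟨f ∘ₗ ψ, comp_tr1 hf ψ⟩

/-- projective homomorphisms form a (two-sided) ideal : right composition -/
theorem IsProjHom.comp_right {ρ : Representation F G V} {σ : Representation F G W}
    {π : Representation F G X} {f : V →ₗ[F] W} (hf : IsProjHom ρ σ f) {h : X →ₗ[F] V}
    (hh : IsHom π ρ h) : IsProjHom π σ (f ∘ₗ h) := by
  obtain ⟨ψ, rfl⟩ := hf
  exact ⟨ψ ∘ₗ h, tr1_comp hh ψ⟩

/-- if the identity of the source is projective, every homomorphism out of it is projective -/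
theorem IsProjHom.of_id_source {ρ : Representation F G V} {σ : Representation F G W}
    (hid : IsProjHom ρ ρ LinearMap.id) {f : V →ₗ[F] W} (hf : IsHom ρ σ f) : IsProjHom ρ σ f := by
  have := hid.comp_left hf
  rwa [LinearMap.comp_id] at this

/-- if the identity of the target is projective, every homomorphism into it is projective -/
theorem IsProjHom.of_id_target {ρ : Representation F G V} {σ : Representation F G W}
    (hid : IsProjHom σ σ LinearMap.id) {f : V →ₗ[F] W} (hf : IsHom ρ σ f) : IsProjHom ρ σ f := by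
  have := hid.comp_right hf
  rwa [LinearMap.id_comp] at this

/-- transport of projectivity along isomorphisms of the source -/
theorem IsProjHom.of_iso_source {ρ : Representation F G V} {σ : Representation F G W}
    {π : Representation F G X} {f : V →ₗ[F] W} {e : X →ₗ[F] V} (_he : IsHom π ρ e)
    {e' : V →ₗ[F] X} (he' : IsHom ρ π e') (hee : e ∘ₗ e' = LinearMap.id)
    (hf : IsProjHom π σ (f ∘ₗ e)) : IsProjHom ρ σ f := by
  have := hf.comp_right he'
  rwa [LinearMap.comp_assoc, hee, LinearMap.comp_id] at this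

end defs

end Cfsg.Agent.Lib.helper7.BD

namespace Cfsg.Agent.Lib.helper7.BD

section defs2

variable {F : Type*} [Field F] {G : Type*} [Group G]
variable {V : Type*} [AddCommGroup V] [Module F V] {W : Type*} [AddCommGroup W] [Module F W]

/-- the one-dimensional representation on `F` given by a linear character `μ : H →* Fˣ` -/
def linRep {H : Type*} [Group H] (μ : H →* Fˣ) : Representation F H F where
  toFun h := ((μ h : Fˣ) : F) • LinearMap.id
  map_one' := by
    rw [map_one, Units.val_one, one_smul]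
    rfl
  map_mul' a b := by
    refine LinearMap.ext fun c => ?_
    rw [map_mul, Units.val_mul, Module.End.mul_apply, LinearMap.smul_apply, LinearMap.smul_apply,
      LinearMap.smul_apply, LinearMap.id_apply, smul_eq_mul, smul_eq_mul, smul_eq_mul, mul_assoc,
      LinearMap.id_apply]

theorem linRep_apply {H : Type*} [Group H] (μ : H →* Fˣ) (h : H) (c : F) :
    linRep μ h c = ((μ h : Fˣ) : F) * c := by
  show (((μ h : Fˣ) : F) • (LinearMap.id : F →ₗ[F] F)) c = _
  rw [LinearMap.smul_apply, LinearMap.id_apply, smul_eq_mul]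

/-- the relative trace from a subgroup `N` (sum over coset representatives `Quotient.out`);
meaningful for `N`-homomorphisms `φ` -/
noncomputable def trSub (N : Subgroup G) [Fintype (G ⧸ N)] (ρ : Representation F G V)
    (σ : Representation F G W) (φ : V →ₗ[F] W) : V →ₗ[F] W :=
  ∑ q : G ⧸ N, σ (Quotient.out q) ∘ₗ φ ∘ₗ ρ (Quotient.out q)⁻¹

end defs2

end Cfsg.Agent.Lib.helper7.BD

namespace Cfsg.Agent.Lib.helper7.BD

/-- the global situation: `P` of order `p`, `N` normalizes `P`, contains it with index prime to `p`, has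
index prime to `p` in `G`, and is "TI": the only coset `gN` fixed by `P` (acting on the left) is `N`. -/
structure TISetup {G : Type*} [Group G] (p : ℕ) (P N : Subgroup G) : Prop where
  card_P : Nat.card P = p
  P_le_N : P ≤ N
  normal : ∀ n ∈ N, ∀ x ∈ P, n * x * n⁻¹ ∈ P
  ti : ∀ g : G, (∀ x ∈ P, g⁻¹ * x * g ∈ N) → g ∈ N
  idxN : ¬ p ∣ P.relIndex N
  idxG : ¬ p ∣ N.index

/-- the local situation: a group `H` generated by an element `x` with `x ^ p = 1` spanning a normal
subgroup, and a subgroup `L` of order prime to `p`. -/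
structure LocalSetup {H : Type*} [Group H] (p : ℕ) (x : H) (L : Subgroup H) : Prop where
  pow : x ^ p = 1
  gen : ∀ h : H, ∃ k : ℕ, ∃ l ∈ L, h = x ^ k * l
  norm : ∀ h : H, ∃ k : ℕ, h * x * h⁻¹ = x ^ k
  cardL : ¬ p ∣ Nat.card L

end Cfsg.Agent.Lib.helper7.BD
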