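import Mathlib
import Cfsg.Prelude.Def_Blocks
import Cfsg.Prelude.Def_BlockLocal
import Cfsg.Prelude.Def_BlockRank
import Cfsg.Agent.Lib.helper7.BD.Defs
import Cfsg.Agent.Lib.Helper24.ExtFirstMain2

/-!
# Project BD, stage B (general blocks of defect one): definitions

* `cjIrr H n ξ` : the conjugate of an irreducible character `ξ` of the subgroup `H` by an element `n`
  of `G` normalizing `H` : `(cjIrr H n ξ) (n h n⁻¹) = ξ h` (junk value `ξ` if `n` does not normalize `H`);
* `cjSet H n b` : the conjugate of a set of irreducible characters;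
* `twistRep σ μ` : the twist of a representation by a linear character.
-/

set_option autoImplicit false

namespace Cfsg.Agent.Lib.helper7.BD

section conj

variable {G : Type*} [Group G]

open Classical in
/-- the conjugate `ξ^n` of an irreducible character of the subgroup `H` by `n ∈ N_G(H)`:
`ξ^n (n h n⁻¹) = ξ h`, i.e. `ξ^n h = ξ (n⁻¹ h n)`.  Junk value `ξ` when `n ∉ N_G(H)`. -/
noncomputable def cjIrr (H : Subgroup G) (n : G) (ξ : Cfsg.IrrCharacter H) : Cfsg.IrrCharacter H :=
  if hn : n ∈ Subgroup.normalizer (H : Set G) then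
    Cfsg.Agent.Lib.Helper24.ef_tr (H.normalizerMonoidHom ⟨n, hn⟩).symm ξ
  else ξ

theorem cjIrr_of_mem (H : Subgroup G) {n : G} (hn : n ∈ Subgroup.normalizer (H : Set G))
    (ξ : Cfsg.IrrCharacter H) :
    cjIrr H n ξ = Cfsg.Agent.Lib.Helper24.ef_tr (H.normalizerMonoidHom ⟨n, hn⟩).symm ξ := by
  unfold cjIrr
  rw [dif_pos hn]

theorem cjIrr_apply (H : Subgroup G) {n : G} (hn : n ∈ Subgroup.normalizer (H : Set G))
    (ξ : Cfsg.IrrCharacter H) (h : H) :
    (cjIrr H n ξ : H → ℂ) h = (ξ : H → ℂ) ((H.normalizerMonoidHom ⟨n, hn⟩).symm h) := by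
  rw [cjIrr_of_mem H hn]
  rfl

/-- the defining property of the conjugate character -/
theorem cjIrr_conj (H : Subgroup G) {n : G} (hn : n ∈ Subgroup.normalizer (H : Set G))
    (ξ : Cfsg.IrrCharacter H) (h h' : H) (hh : (h' : G) = n * (h : G) * n⁻¹) :
    (cjIrr H n ξ : H → ℂ) h' = (ξ : H → ℂ) h := by
  rw [cjIrr_apply H hn]
  have h1 : (H.normalizerMonoidHom ⟨n, hn⟩).symm h' = h := by
    rw [MulEquiv.symm_apply_eq]
    apply Subtype.ext
    rw [hh]
    rfl
  rw [h1]

theorem isConjCharOf_cjIrr (H : Subgroup G) {n : G} (hn : n ∈ Subgroup.normalizer (H : Set G))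
    (ξ : Cfsg.IrrCharacter H) :
    Cfsg.IsConjCharOf H n (ξ : H → ℂ) (cjIrr H n ξ : H → ℂ) :=
  fun h h' hh => cjIrr_conj H hn ξ h h' hh

/-- a conjugate in the sense of `IsConjCharOf` is `cjIrr` -/
theorem eq_cjIrr_of_isConjCharOf (H : Subgroup G) {n : G} (hn : n ∈ Subgroup.normalizer (H : Set G))
    (ξ ξ' : Cfsg.IrrCharacter H) (h : Cfsg.IsConjCharOf H n (ξ : H → ℂ) (ξ' : H → ℂ)) :
    ξ' = cjIrr H n ξ := by
  apply Subtype.ext
  funext k'
  set k : H := (H.normalizerMonoidHom ⟨n, hn⟩).symm k' with hk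
  have hk' : (k' : G) = n * (k : G) * n⁻¹ := by
    have h1 : k' = (H.normalizerMonoidHom ⟨n, hn⟩) k := by
      rw [hk, MulEquiv.apply_symm_apply]
    rw [h1]
    rfl
  rw [h k k' hk', cjIrr_conj H hn ξ k k' hk']

/-- the conjugate of a set of irreducible characters -/
noncomputable def cjSet (H : Subgroup G) (n : G) (b : Set (Cfsg.IrrCharacter H)) :
    Set (Cfsg.IrrCharacter H) :=
  cjIrr H n '' b

end conj

section twist

variable {F : Type*} [Field F] {H : Type*} [Group H] {S : Type*} [AddCommGroup S] [Module F S]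

/-- the twist of a representation by a linear character -/
noncomputable def twistRep (σ : Representation F H S) (μ : H →* Fˣ) : Representation F H S where
  toFun h := ((μ h : Fˣ) : F) • σ h
  map_one' := by
    rw [map_one, map_one, Units.val_one, one_smul]
  map_mul' a b := by
    rw [map_mul, map_mul, Units.val_mul, smul_mul_smul_comm]

theorem twistRep_apply (σ : Representation F H S) (μ : H →* Fˣ) (h : H) :
    twistRep σ μ h = ((μ h : Fˣ) : F) • σ h := rfl

end twist

section root

universe u

/-- the standing hypotheses of the theorem on blocks of defect one (statement S4442):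
`P` a Sylow `p`-subgroup of order `p`, `B` a block of `G` with defect group `P`, `b` a block of
`C = C_G(P)` inducing `B`, `θ ∈ b` the canonical character (trivial on `P`), and `T` the stabilizer of
`θ` in `N = N_G(P)`. -/
structure RootHyp {G : Type u} [Group G] (p : ℕ) (M : Ideal Cfsg.AlgInt) (P : Sylow p G)
    (B : Set (Cfsg.IrrCharacter G))
    (b : Set (Cfsg.IrrCharacter (Subgroup.centralizer ((P : Subgroup G) : Set G))))
    (θ : Cfsg.IrrCharacter (Subgroup.centralizer ((P : Subgroup G) : Set G))) (T : Subgroup G) : Prop where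
  hM : Cfsg.IsPModular p M
  card_P : Nat.card P = p
  hB : Cfsg.IsPBlock M B
  hBP : Cfsg.IsDefectGroup p M B P
  hind : Cfsg.IsInducedBlock M (Subgroup.centralizer ((P : Subgroup G) : Set G)) b B
  hθ : θ ∈ b
  hθP : ∀ x : Subgroup.centralizer ((P : Subgroup G) : Set G), (x : G) ∈ (P : Subgroup G) →
    (θ : Subgroup.centralizer ((P : Subgroup G) : Set G) → ℂ) x =
      (θ : Subgroup.centralizer ((P : Subgroup G) : Set G) → ℂ) 1
  hT : ∀ g : G, g ∈ T ↔ (g ∈ Subgroup.normalizer ((P : Subgroup G) : Set G) ∧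
    ∀ c c' : Subgroup.centralizer ((P : Subgroup G) : Set G), (c' : G) = g * c * g⁻¹ →
      (θ : Subgroup.centralizer ((P : Subgroup G) : Set G) → ℂ) c' =
        (θ : Subgroup.centralizer ((P : Subgroup G) : Set G) → ℂ) c)

end root

section subop

variable {F : Type*} [Field F] {G : Type*} [Group G] {S : Type*} [AddCommGroup S] [Module F S]

/-- the operator by which the element `a = ∑ a(c) c` of the group algebra of the subgroup `C ≤ N` acts
on a representation of `N`. -/
noncomputable def subOp {C N : Subgroup G} (hCN : C ≤ N) [Fintype ↥C] (σ : Representation F ↥N S)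
    (a : ↥C → F) : S →ₗ[F] S :=
  ∑ c : ↥C, a c • σ (Subgroup.inclusion hCN c)

theorem subOp_apply {C N : Subgroup G} (hCN : C ≤ N) [Fintype ↥C] (σ : Representation F ↥N S)
    (a : ↥C → F) : subOp hCN σ a = ∑ c : ↥C, a c • σ (Subgroup.inclusion hCN c) := rfl

end subop

section stable

variable {F : Type*} [Field F] {H : Type*} [Group H] {S : Type*} [AddCommGroup S] [Module F S]

/-- the subspace `W` is stable under the elements of the subgroup `K` -/
def StableUnder (σ : Representation F H S) (K : Subgroup H) (W : Submodule F S) : Prop :=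
  ∀ k ∈ K, ∀ w ∈ W, σ k w ∈ W

/-- `W` is a minimal nonzero `K`-stable subspace -/
def SimpleUnder (σ : Representation F H S) (K : Subgroup H) (W : Submodule F S) : Prop :=
  W ≠ ⊥ ∧ StableUnder σ K W ∧
    ∀ W' : Submodule F S, W' ≤ W → W' ≠ ⊥ → StableUnder σ K W' → W' = W

end stable

end Cfsg.Agent.Lib.helper7.BD
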