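import Mathlib
import Cfsg.Prelude.Def_Characters
import Cfsg.Agent.Lib.helper7.BD.D1Defs

/-!
# Project BD, stage B (general blocks of defect one): definitions for the character side

* `indCN C N φ` : induction of a function from the subgroup `C` to the subgroup `N` (both inside `G`);
* `singSet p C` : the `p`-singular elements of `C`;
* `IsReps ...` : a system of representatives of the orbits of `T` on `b ∖ {θ}`.
-/

set_option autoImplicit false

namespace Cfsg.Agent.Lib.helper7.BD

universe u

section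

variable {G : Type u} [Group G]

/-- induction of a complex function from the subgroup `C` to the subgroup `N` of `G` (meaningful for `C ≤ N`):
`(indCN C N φ) n = |C|⁻¹ ∑_{m ∈ N} φ°(m⁻¹ n m)`, `φ°` the extension of `φ` by zero. -/
noncomputable def indCN (C N : Subgroup G) [Fintype ↥N] (φ : ↥C → ℂ) : ↥N → ℂ :=
  fun n => (Nat.card C : ℂ)⁻¹ * ∑ m : ↥N, Cfsg.extendByZero C φ ((m : G)⁻¹ * (n : G) * (m : G))

/-- the `p`-singular elements of the subgroup `C` -/
def singSet (p : ℕ) (C : Subgroup G) : Set G :=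
  {g | g ∈ C ∧ p ∣ orderOf g}

/-- `r : Fin t → Irr(C)` is a system of representatives of the orbits of `T` on `b ∖ {θ}`, all orbits having
`e` elements: the last field is the usable form of this statement. -/
structure IsReps {p : ℕ} (P : Sylow p G)
    (b : Set (Cfsg.IrrCharacter (Subgroup.centralizer ((P : Subgroup G) : Set G))))
    (θ : Cfsg.IrrCharacter (Subgroup.centralizer ((P : Subgroup G) : Set G))) (T : Subgroup G)
    (e t : ℕ) (r : Fin t → Cfsg.IrrCharacter (Subgroup.centralizer ((P : Subgroup G) : Set G))) :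
    Prop where
  et : e * t = p - 1
  mem : ∀ j, r j ∈ b
  ne : ∀ j, r j ≠ θ
  inj : ∀ j j' : Fin t, ∀ n ∈ T,
    cjIrr (Subgroup.centralizer ((P : Subgroup G) : Set G)) n (r j) = r j' → j = j'
  sum : ∀ g : Cfsg.IrrCharacter (Subgroup.centralizer ((P : Subgroup G) : Set G)) → ℂ,
    (∀ n ∈ T, ∀ ξ ∈ b, g (cjIrr (Subgroup.centralizer ((P : Subgroup G) : Set G)) n ξ) = g ξ) →
    ∑ᶠ ξ ∈ b \ {θ}, g ξ = (e : ℂ) * ∑ j, g (r j)

end

end Cfsg.Agent.Lib.helper7.BD
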