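import Mathlib
import Cfsg.Prelude.Def_Characters
import Cfsg.Agent.Lib.helper7.BD.D1Defs
import Cfsg.Agent.Lib.Helper24.CyclicInertial3

/-!
# Project BD, stage B : definitions for the count of characters of `p'`-degree (S4502)

* `canonSet P` : the irreducible characters of `C_G(P)` with `P` in the kernel (the canonical characters);
* `stabT P θ` : the stabilizer of `θ` in `N_G(P)`, as a subgroup.
-/

set_option autoImplicit false

namespace Cfsg.Agent.Lib.helper7.BD

universe u

section

variable {G : Type u} [Group G] {p : ℕ}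

/-- the canonical characters: irreducible characters of `C_G(P)` which are trivial on `P` -/
def canonSet (P : Sylow p G) :
    Set (Cfsg.IrrCharacter (Subgroup.centralizer ((P : Subgroup G) : Set G))) :=
  {θ | ∀ x : Subgroup.centralizer ((P : Subgroup G) : Set G), (x : G) ∈ (P : Subgroup G) →
    (θ : Subgroup.centralizer ((P : Subgroup G) : Set G) → ℂ) x =
      (θ : Subgroup.centralizer ((P : Subgroup G) : Set G) → ℂ) 1}

/-- conjugation by an element of `N_G(P)` maps `C_G(P)` to itself -/
theorem conj_mem_centralizer_of_mem_normalizer (P : Subgroup G) {g c : G}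
    (hg : g ∈ Subgroup.normalizer (P : Set G)) (hc : c ∈ Subgroup.centralizer (P : Set G)) :
    g * c * g⁻¹ ∈ Subgroup.centralizer (P : Set G) := by
  have h1 := Cfsg.Agent.Lib.Helper24.ci_normalizer_le P hg
  exact (Subgroup.mem_normalizer_iff.mp h1 c).mp hc

/-- the stabilizer in `N_G(P)` of the character `θ` of `C_G(P)` -/
def stabT (P : Sylow p G) (θ : Cfsg.IrrCharacter (Subgroup.centralizer ((P : Subgroup G) : Set G))) :
    Subgroup G where
  carrier := {g | g ∈ Subgroup.normalizer ((P : Subgroup G) : Set G) ∧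
    ∀ c c' : Subgroup.centralizer ((P : Subgroup G) : Set G), (c' : G) = g * c * g⁻¹ →
      (θ : Subgroup.centralizer ((P : Subgroup G) : Set G) → ℂ) c' =
        (θ : Subgroup.centralizer ((P : Subgroup G) : Set G) → ℂ) c}
  one_mem' := by
    refine ⟨Subgroup.one_mem _, fun c c' h => ?_⟩
    have : c' = c := by
      apply Subtype.ext
      rw [h]
      group
    rw [this]
  mul_mem' := by
    rintro g g' ⟨hg, hgθ⟩ ⟨hg', hg'θ⟩
    refine ⟨Subgroup.mul_mem _ hg hg', fun c c' h => ?_⟩
    have hmem : g' * (c : G) * g'⁻¹ ∈ Subgroup.centralizer ((P : Subgroup G) : Set G) :=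
      conj_mem_centralizer_of_mem_normalizer (P : Subgroup G) hg' c.2
    have h1 := hg'θ c ⟨g' * (c : G) * g'⁻¹, hmem⟩ rfl
    have h2 := hgθ ⟨g' * (c : G) * g'⁻¹, hmem⟩ c' (by
      rw [h]
      show g * g' * (c : G) * (g * g')⁻¹ = g * (g' * (c : G) * g'⁻¹) * g⁻¹
      group)
    rw [h2, h1]
  inv_mem' := by
    rintro g ⟨hg, hgθ⟩
    refine ⟨Subgroup.inv_mem _ hg, fun c c' h => ?_⟩
    have h1 := hgθ c' c (by
      rw [h]
      group)
    exact h1.symm

theorem mem_stabT (P : Sylow p G)
    (θ : Cfsg.IrrCharacter (Subgroup.centralizer ((P : Subgroup G) : Set G))) (g : G) :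
    g ∈ stabT P θ ↔ (g ∈ Subgroup.normalizer ((P : Subgroup G) : Set G) ∧
      ∀ c c' : Subgroup.centralizer ((P : Subgroup G) : Set G), (c' : G) = g * c * g⁻¹ →
        (θ : Subgroup.centralizer ((P : Subgroup G) : Set G) → ℂ) c' =
          (θ : Subgroup.centralizer ((P : Subgroup G) : Set G) → ℂ) c) :=
  Iff.rfl

end

end Cfsg.Agent.Lib.helper7.BD
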