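import Mathlib
import Cfsg.Agent.Lib.helper7.BD.CharDefs
import Cfsg.Agent.Lib.helper7.KleinDef8
import Cfsg.Agent.Lib.Helper25.CharLinear
import Cfsg.Agent.Lib.Helper13.BDKDN
import Cfsg.Agent.Lib.helper2.BDREPS

/-!
# Project BD : KB0 (assembly of KDN and REPS)

`k(B₀) = l(B₀) + (p - 1) / e` for a Sylow `p`-subgroup of order `p`.
-/

set_option autoImplicit false
set_option linter.unusedVariables false
set_option linter.unusedSectionVars false
set_option linter.style.haveILetI false

namespace Cfsg.Agent.Lib.helper7.BD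

open Cfsg.Agent.Lib.helper7

universe u

variable {G : Type u} [Group G] [Fintype G]

/-- KB0 (assembly) : `k(B₀) = l(B₀) + (p - 1) / e` -/
theorem card_principal_eq (p : ℕ) [Fact p.Prime] (M : Ideal Cfsg.AlgInt) (hM : Cfsg.IsPModular p M)
    (P : Sylow p G) (hP : Nat.card P = p) :
    Nat.card (Cfsg.principalBlock M G) = Cfsg.blockRank p (Cfsg.principalBlock M G) +
      (p - 1) / (Subgroup.centralizer ((P : Subgroup G) : Set G)).relIndex
        (Subgroup.normalizer ((P : Subgroup G) : Set G)) := by
  classical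
  have hB : Cfsg.IsPBlock M (Cfsg.principalBlock M G) := ⟨Cfsg.Agent.Lib.Helper25.trivIrr G, rfl⟩
  obtain ⟨X, h1X, hXp, hXrep, hcard⟩ := h7_kd_brauer p M hM (Cfsg.principalBlock M G) hB
  obtain ⟨hord, hcnt⟩ := card_pclass_reps p P hP X h1X hXp hXrep
  have hsum : ∑ x ∈ X.erase 1, h7_kd_n p M (Cfsg.principalBlock M G) x = (X.erase 1).card := by
    rw [Finset.sum_congr rfl (fun x hx => kd_n_principal_eq_one p M hM P hP x (hord x hx))]
    simp
  rw [hcard, hsum]
  congr 1
  have he0 : 0 < (Subgroup.centralizer ((P : Subgroup G) : Set G)).relIndex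
      (Subgroup.normalizer ((P : Subgroup G) : Set G)) := by
    rcases Nat.eq_zero_or_pos ((Subgroup.centralizer ((P : Subgroup G) : Set G)).relIndex
      (Subgroup.normalizer ((P : Subgroup G) : Set G))) with h0 | h0
    · rw [h0, mul_zero] at hcnt
      have := (Fact.out : p.Prime).two_le
      omega
    · exact h0
  rw [← hcnt, Nat.mul_div_cancel _ he0]

end Cfsg.Agent.Lib.helper7.BD
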