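import Mathlib
import Cfsg.Agent.Lib.helper7.BD.Defs
import Cfsg.Agent.Lib.Helper25.BDCOIND
import Cfsg.Agent.Lib.Helper13.BDDESC

/-!
# Project BD : EXIST (assembly of COIND and DESC)
-/

set_option autoImplicit false
set_option linter.unusedVariables false
set_option linter.unusedSectionVars false

namespace Cfsg.Agent.Lib.helper7.BD

universe u v w

variable {F : Type*} [Field F] {G : Type u} [Group G] [Fintype G]

/-- EXIST : for an `N`-module `S` whose identity is not projective there is a simple `G`-module with a
non-projective `N`-map to `S`. -/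
theorem exists_simple_over (N : Subgroup G) [Fintype ↥N] {S : Type w} [AddCommGroup S] [Module F S]
    [FiniteDimensional F S] (σ : Representation F ↥N S) (hS : ¬ IsProjHom σ σ LinearMap.id) :
    ∃ (V : Type (max u w)) (_ : AddCommGroup V) (_ : Module F V) (_ : FiniteDimensional F V)
      (ρV : Representation F G V), ρV.IsIrreducible ∧
      ∃ f : V →ₗ[F] S, IsHom (ρV.comp N.subtype) σ f ∧ ¬ IsProjHom (ρV.comp N.subtype) σ f := by
  obtain ⟨I, _, _, _, ρ, ε, ι, hε, hι, hει⟩ := exists_coind (F := F) N σ
  refine exists_simple_of_nonproj N ρ σ ε hε ?_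
  intro hproj
  apply hS
  have := hproj.comp_right hι
  rwa [hει] at this

end Cfsg.Agent.Lib.helper7.BD
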