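import Mathlib
import Cfsg.Agent.Lib.helper7.BD.Defs
import Cfsg.Agent.Lib.helper6.BDTRNG
import Cfsg.Agent.Lib.Helper25.BDMACK
import Cfsg.Agent.Lib.Helper29.BDSCH0
import Cfsg.Agent.Lib.Helper29.BDIDX

/-!
# Project BD : SCHUR (assembly of TRNG, MACK, SCH0, IDX)
-/

set_option autoImplicit false
set_option linter.unusedVariables false
set_option linter.unusedSectionVars false
set_option linter.style.haveILetI false

namespace Cfsg.Agent.Lib.helper7.BD

universe u v w

variable {F : Type*} [Field F] {G : Type u} [Group G] [Fintype G]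

/-- SCHUR (assembly) -/
theorem endo_scalar_mod_proj [IsAlgClosed F] {p : ℕ} [Fact p.Prime] [CharP F p] {P N : Subgroup G}
    (h : TISetup p P N) [Fintype ↥N] {V : Type v} [AddCommGroup V] [Module F V] [FiniteDimensional F V]
    (ρ : Representation F G V) [ρ.IsIrreducible] (φ : V →ₗ[F] V)
    (hφ : IsHom (ρ.comp N.subtype) (ρ.comp N.subtype) φ) :
    ∃ c : F, IsProjHom (ρ.comp N.subtype) (ρ.comp N.subtype) (φ - c • LinearMap.id) := by
  classical
  haveI : Fintype ↥P := Fintype.ofFinite _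
  haveI : Fintype (G ⧸ N) := Fintype.ofFinite _
  obtain ⟨c, hc⟩ := schur_scalar ρ (trSub N ρ ρ φ) (trSub_isHom N ρ ρ φ hφ)
  refine ⟨c, ?_⟩
  have h1 := trSub_sub_self h ρ ρ φ hφ
  have hidx : ((P.relIndex N : ℕ) : F) ≠ 0 := by
    intro h0
    exact h.idxN ((CharP.cast_eq_zero_iff F p _).mp h0)
  have h2 : IsHom (ρ.comp N.subtype) (ρ.comp N.subtype) (trSub N ρ ρ φ - φ) :=
    ((trSub_isHom N ρ ρ φ hφ).res N).sub hφ
  have h3 := projHom_of_le h.P_le_N hidx ρ ρ _ h2 h1
  have h4 := h3.neg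
  rw [hc] at h4
  rwa [neg_sub] at h4

end Cfsg.Agent.Lib.helper7.BD
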