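import Mathlib
import Cfsg.Agent.Lib.helper7.BD.Defs
import Cfsg.Agent.Lib.Helper13.BDSS
import Cfsg.Agent.Lib.Helper11.BDSTAB
import Cfsg.Agent.Lib.helper6.BDFREE
import Cfsg.Agent.Lib.helper6.BDAVG
import Cfsg.Agent.Lib.Lead.BDLOC
import Cfsg.Agent.Lib.Helper11.BDFIX

/-!
# Project BD : SPLIT (assembly of SS, STAB, FREE, AVG, LOC, FIX)
-/

set_option autoImplicit false
set_option linter.unusedVariables false
set_option linter.unusedSectionVars false
set_option linter.style.haveILetI false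

namespace Cfsg.Agent.Lib.helper7.BD

universe u v w

variable {F : Type*} [Field F]

/-- SPLIT (assembly of SS, STAB, FREE, AVG, LOC, FIX) -/
theorem exists_local_idem {H : Type u} [Group H] [Fintype H] {p : ℕ} [Fact p.Prime] [CharP F p]
    (x : H) (L : Subgroup H) (hs : LocalSetup p x L)
    {Y : Type v} [AddCommGroup Y] [Module F Y] [FiniteDimensional F Y] [Nontrivial Y]
    (ρ : Representation F H Y) :
    ∃ π : Y →ₗ[F] Y, IsHom ρ ρ π ∧ π ∘ₗ π = π ∧ π ≠ 0 ∧
      ∀ (S' : Type w) [AddCommGroup S'] [Module F S'] (S'' : Type w) [AddCommGroup S''] [Module F S'']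
        (σ' : Representation F H S') (σ'' : Representation F H S''), σ'.IsIrreducible → σ''.IsIrreducible →
        ∀ (g' : Y →ₗ[F] S') (g'' : Y →ₗ[F] S''), IsHom ρ σ' g' → IsHom ρ σ'' g'' →
        g' ∘ₗ π ≠ 0 → g'' ∘ₗ π ≠ 0 → IsIso σ' σ'' := by
  classical
  haveI : Fintype ↥L := Fintype.ofFinite _
  set u : Module.End F Y := ρ x - 1 with hu
  have hup : u ^ p = 0 := by
    haveI : CharP (Module.End F Y) p := by
      refine charP_of_injective_algebraMap (R := F) (A := Module.End F Y) ?_ p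
      exact (algebraMap F (Module.End F Y)).injective
    have hc : Commute (ρ x) (1 : Module.End F Y) := Commute.one_right _
    rw [hu, sub_pow_char_of_commute _ hc, one_pow, ← map_pow, hs.pow, map_one, sub_self]
  have hex : ∃ k : ℕ, u ^ (k + 1) = 0 := by
    refine ⟨p - 1, ?_⟩
    have : p - 1 + 1 = p := Nat.sub_add_cancel (Fact.out : p.Prime).one_le
    rw [this, hup]
  set n := Nat.find hex with hn
  have hn1 : u ^ (n + 1) = 0 := Nat.find_spec hex
  have hn0 : u ^ n ≠ 0 := by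
    rcases Nat.eq_zero_or_pos n with h0 | hpos
    · rw [h0, pow_zero]
      exact one_ne_zero
    · intro h0
      have := Nat.find_min hex (m := n - 1) (by omega)
      apply this
      rw [Nat.sub_add_cancel hpos]
      exact h0
  have hL : ((Fintype.card ↥L : ℕ) : F) ≠ 0 := by
    intro h0
    apply hs.cardL
    rw [Nat.card_eq_fintype_card]
    exact (CharP.cast_eq_zero_iff F p _).mp h0
  obtain ⟨S₀, hS₀, s, hsS, hsne⟩ := exists_atom_not_killed hL (ρ.comp L.subtype) (u ^ n : Y →ₗ[F] Y) hn0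
  have hS₀stab : ∀ l ∈ L, ∀ y ∈ S₀.toSubmodule, ρ l y ∈ S₀.toSubmodule := fun l hl y hy =>
    S₀.apply_mem_toSubmodule ⟨l, hl⟩ hy
  obtain ⟨hUstab, hker⟩ := span_stable x L hs ρ S₀.toSubmodule hS₀stab n hn1
  have hinj : ∀ t ∈ S₀.toSubmodule, (u ^ n) t = 0 → t = 0 := by
    let K : Subrepresentation (ρ.comp L.subtype) :=
      { toSubmodule := S₀.toSubmodule ⊓ LinearMap.ker (u ^ n : Y →ₗ[F] Y)
        apply_mem_toSubmodule := fun l y hy => by
          refine ⟨S₀.apply_mem_toSubmodule l hy.1, ?_⟩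
          exact LinearMap.mem_ker.mpr (hker l l.2 n y (LinearMap.mem_ker.mp hy.2)) }
    have hKle : K ≤ S₀ := fun y hy => hy.1
    have hKne : K ≠ S₀ := by
      intro hKS
      apply hsne
      have : s ∈ K := by rw [hKS]; exact hsS
      exact LinearMap.mem_ker.mp this.2
    have hKbot : K = ⊥ := hS₀.le_iff.mp hKle |>.resolve_right hKne
    intro t ht h0
    have : t ∈ K := ⟨ht, LinearMap.mem_ker.mpr h0⟩
    rw [hKbot] at this
    exact this
  obtain ⟨π₀, hπu, hπ₀, hrange⟩ := exists_retraction_of_free u n hn1 S₀.toSubmodule hinj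
  have hπx : π₀ * ρ x = ρ x * π₀ := by
    have h1 : ρ x = u + 1 := by rw [hu]; abel
    rw [h1, mul_add, add_mul, hπu, mul_one, one_mul]
  obtain ⟨π, hπH, hπ, hπr⟩ := exists_equivariant_idem x L hs ρ _ hUstab π₀ hπx hπ₀ hrange
  have hsU : s ∈ (⨆ i : Fin (n + 1), S₀.toSubmodule.map (u ^ (i : ℕ))) := by
    refine Submodule.mem_iSup_of_mem (0 : Fin (n + 1)) ?_
    refine ⟨s, hsS, ?_⟩
    simp
  have hs0 : s ≠ 0 := by
    intro h0
    apply hsne
    rw [h0, map_zero]
  refine ⟨π, hπH, hπ, ?_, ?_⟩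
  · intro h0
    rw [← hπr, h0] at hsU
    apply hs0
    simpa using hsU
  · intro S' _ _ S'' _ _ σ' σ'' hσ' hσ'' g' g'' hg' hg'' hne' hne''
    haveI := hσ'
    haveI := hσ''
    have hx' := trivial_of_irreducible (p := p) x hs.pow hs.norm σ'
    have hx'' := trivial_of_irreducible (p := p) x hs.pow hs.norm σ''
    have key : ∀ {S : Type w} [AddCommGroup S] [Module F S] (g : Y →ₗ[F] S), g ∘ₗ π ≠ 0 →
        ∃ y ∈ (⨆ i : Fin (n + 1), S₀.toSubmodule.map (u ^ (i : ℕ))), g y ≠ 0 := by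
      intro S _ _ g hg
      by_contra hcon
      push Not at hcon
      apply hg
      refine LinearMap.ext fun y => ?_
      rw [LinearMap.comp_apply, LinearMap.zero_apply]
      apply hcon
      rw [← hπr]
      exact LinearMap.mem_range_self π y
    exact local_of_generated x L hs ρ S₀ hS₀ n σ' σ'' hx' hx'' g' g'' hg' hg'' (key g' hne') (key g'' hne'')

end Cfsg.Agent.Lib.helper7.BD
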