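import Mathlib
import Cfsg.Agent.Lib.helper7.BD.Defs
import Cfsg.Agent.Lib.helper7.BD.Schur
import Cfsg.Agent.Lib.helper7.BD.Split
import Cfsg.Agent.Lib.Helper22.BDUNIQ
import Cfsg.Agent.Lib.helper23.BDSETUP2

/-!
# Project BD : UNIQ-G (assembly)
-/

set_option autoImplicit false
set_option linter.unusedVariables false
set_option linter.unusedSectionVars false
set_option linter.style.haveILetI false

namespace Cfsg.Agent.Lib.helper7.BD

universe u v w

variable {F : Type*} [Field F] {G : Type u} [Group G] [Fintype G]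

/-- UNIQ-G : a simple `G`-module has non-projective `N`-maps to at most one simple `N`-module. -/
theorem uniq_simple_target [IsAlgClosed F] {p : ℕ} [Fact p.Prime] [CharP F p] {P N : Subgroup G}
    (h : TISetup p P N) [Fintype ↥N] {V : Type v} [AddCommGroup V] [Module F V] [FiniteDimensional F V]
    (ρ : Representation F G V) [ρ.IsIrreducible]
    {S' : Type w} [AddCommGroup S'] [Module F S'] {S'' : Type w} [AddCommGroup S''] [Module F S'']
    (σ' : Representation F ↥N S') (σ'' : Representation F ↥N S'') [σ'.IsIrreducible] [σ''.IsIrreducible]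
    (f' : V →ₗ[F] S') (f'' : V →ₗ[F] S'') (hf' : IsHom (ρ.comp N.subtype) σ' f')
    (hf'' : IsHom (ρ.comp N.subtype) σ'' f'')
    (hnp' : ¬ IsProjHom (ρ.comp N.subtype) σ' f') (hnp'' : ¬ IsProjHom (ρ.comp N.subtype) σ'' f'') :
    IsIso σ' σ'' := by
  obtain ⟨x, L, hs, -⟩ := exists_localSetup p h
  exact uniq_of_local_end (fun Y _ _ _ _ ρY => exists_local_idem x L hs ρY) (ρ.comp N.subtype)
    (fun φ hφ => endo_scalar_mod_proj h ρ φ hφ) σ' σ'' f' f'' hf' hf'' hnp' hnp''


end Cfsg.Agent.Lib.helper7.BD
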