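import Mathlib
import Cfsg.Agent.Lib.helper7.BD.Defs
import Cfsg.Agent.Lib.helper7.BD.Exist
import Cfsg.Agent.Lib.helper7.BD.UniqG
import Cfsg.Agent.Lib.helper7.R1.Link
import Cfsg.Agent.Lib.helper7.Rob1
import Cfsg.Agent.Lib.Helper10.BDLIN
import Cfsg.Agent.Lib.Helper10.BDAUG
import Cfsg.Agent.Lib.Helper10.BDCHARS
import Cfsg.Agent.Lib.Helper10.BDLINKB
import Cfsg.Agent.Lib.Lead.BDINDEP
import Cfsg.Agent.Lib.Helper29.BDNAGAO
import Cfsg.Agent.Lib.helper23.BDSETUP1
import Cfsg.Agent.Lib.Helper11.BDTRIV
import Cfsg.Agent.Lib.Helper25.CharLinear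

/-!
# Project BD : MAIN0 (assembly)

`e = |N_G(P) : C_G(P)| ≤ l(B₀)` for a Sylow `p`-subgroup `P` of order `p`.
-/

set_option autoImplicit false
set_option linter.unusedVariables false
set_option linter.unusedSectionVars false
set_option linter.style.haveILetI false

namespace Cfsg.Agent.Lib.helper7.BD

open Cfsg.Agent.Lib.helper7 Cfsg.Agent.Lib.helper7.Br Cfsg.Agent.Lib.helper7.R1

universe u

/-- MAIN0 -/
theorem principal_blockRank_ge {G : Type u} [Group G] [Fintype G] (p : ℕ) [Fact p.Prime]
    (M : Ideal Cfsg.AlgInt) (hM : Cfsg.IsPModular p M) (P : Sylow p G) (hP : Nat.card P = p) :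
    (Subgroup.centralizer ((P : Subgroup G) : Set G)).relIndex
      (Subgroup.normalizer ((P : Subgroup G) : Set G)) ≤ Cfsg.blockRank p (Cfsg.principalBlock M G) := by
  classical
  have hMp := hM.2.1.isPrime
  set F := h7_resRing M hM.2.1.isPrime with hF
  haveI : IsAlgClosed F := Cfsg.Agent.Lib.Helper21.Br.resRing_isAlgClosed hM
  haveI : CharP F p := h7_resRing_charP hM
  set N := Subgroup.normalizer ((P : Subgroup G) : Set G) with hN
  haveI : Fintype ↥N := Fintype.ofFinite _
  have hTI : TISetup p (P : Subgroup G) N := tiSetup_of_sylow p P hP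
  obtain ⟨μ, hμinj, hμC⟩ := exists_linear_chars (F := F) P hP
  -- the linear representations are not projective
  have hnp : ∀ i, ¬ IsProjHom (linRep (F := F) (μ i)) (linRep (F := F) (μ i)) LinearMap.id := by
    intro i hproj
    obtain ⟨ψ, hψ⟩ := hproj
    have hcard : p ∣ Nat.card ((P : Subgroup G).subgroupOf N) := by
      rw [Nat.card_congr (Subgroup.subgroupOfEquivOfLe hTI.P_le_N).toEquiv, hTI.card_P]
    have htriv : ∀ x ∈ (P : Subgroup G).subgroupOf N, linRep (F := F) (μ i) x = LinearMap.id := by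
      intro x hx
      have hxC : (x : G) ∈ Subgroup.centralizer ((P : Subgroup G) : Set G) := by
        have hxP : (x : G) ∈ (P : Subgroup G) := Subgroup.mem_subgroupOf.mp hx
        rw [Subgroup.mem_centralizer_iff]
        intro y hy
        -- `P` has prime order, hence is commutative
        haveI : Fact (Nat.card (P : Subgroup G) = p) := ⟨hP⟩
        have hcyc : IsCyclic (P : Subgroup G) := isCyclic_of_prime_card hP
        letI : CommGroup (P : Subgroup G) := IsCyclic.commGroup
        have := mul_comm (⟨y, hy⟩ : (P : Subgroup G)) ⟨(x : G), hxP⟩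
        exact congrArg Subtype.val this
      refine LinearMap.ext fun c => ?_
      rw [linRep_apply, hμC i x hxC, Units.val_one, one_mul, LinearMap.id_apply]
    have h0 := tr1_eq_zero_of_trivial (p := p) ((P : Subgroup G).subgroupOf N) hcard
      (linRep (F := F) (μ i)) htriv ψ
    rw [h0] at hψ
    have : (LinearMap.id : F →ₗ[F] F) 1 = 0 := by rw [hψ]; rfl
    exact one_ne_zero this
  have hirrμ : ∀ i, (linRep (F := F) (μ i)).IsIrreducible := fun i => linRep_irreducible (μ i)
  choose V iAG iMod iFD ρ hirr f hf hfnp using fun i =>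
    exists_simple_over (G := G) N (linRep (F := F) (μ i)) (hnp i)
  have hne : ∀ i j, i ≠ j → ¬ IsIso (ρ i) (ρ j) := by
    intro i j hij hiso
    apply hij
    apply hμinj
    apply linRep_eq_of_iso (F := F)
    obtain ⟨e, he⟩ := hiso
    haveI := hirr i
    haveI := hirrμ i
    haveI := hirrμ j
    -- transport `f j` to `V i`
    have hfj : IsHom ((ρ i).comp N.subtype) (linRep (F := F) (μ j)) (f j ∘ₗ (e : V i →ₗ[F] V j)) :=
      (hf j).comp (fun n => he (n : G))
    have hfjnp : ¬ IsProjHom ((ρ i).comp N.subtype) (linRep (F := F) (μ j)) (f j ∘ₗ (e : V i →ₗ[F] V j)) := by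
      intro hproj
      apply hfnp j
      have hesymm : IsHom ((ρ j).comp N.subtype) ((ρ i).comp N.subtype) (e.symm : V j →ₗ[F] V i) := by
        obtain ⟨e', he'⟩ := (IsIso.symm ⟨e, he⟩ : IsIso (ρ j) (ρ i))
        intro n
        refine LinearMap.ext fun w => ?_
        apply e.injective
        have h1 := LinearMap.congr_fun (he (n : G)) (e.symm w)
        simp only [LinearMap.comp_apply, LinearEquiv.coe_coe, LinearEquiv.apply_symm_apply] at h1 ⊢
        exact h1.symm
      have := hproj.comp_right hesymm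
      rw [LinearMap.comp_assoc] at this
      have hid : (e : V i →ₗ[F] V j) ∘ₗ (e.symm : V j →ₗ[F] V i) = LinearMap.id := by
        refine LinearMap.ext fun w => ?_
        simp
      rwa [hid, LinearMap.comp_id] at this
    exact uniq_simple_target hTI (ρ i) (linRep (F := F) (μ i)) (linRep (F := F) (μ j)) (f i)
      (f j ∘ₗ (e : V i →ₗ[F] V j)) (hf i) hfj (hfnp i) hfjnp
  have hblock : ∀ i, ∑ g : G, eBar hM.2.1.isPrime (Cfsg.principalBlock M G) g • ρ i g = LinearMap.id := by
    intro i
    haveI := hirr i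
    have := classfn_acts_by_aug hTI (ρ i) (μ i) (hμC i) (f i) (hf i) (hfnp i)
      (fun g => eBar hM.2.1.isPrime (Cfsg.principalBlock M G) g)
      (fun g k => eBar_class hM.2.1.isPrime (Cfsg.principalBlock M G) g k)
    rw [this, sum_eBar_principal hM, one_smul]
  have hB : Cfsg.IsPBlock M (Cfsg.principalBlock M G) :=
    ⟨Cfsg.Agent.Lib.Helper25.trivIrr G, rfl⟩
  exact card_le_blockRank hM (Cfsg.principalBlock M G) hB V ρ
    (trace_linearIndependent V ρ hirr hne) hblock

end Cfsg.Agent.Lib.helper7.BD
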