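import Mathlib
import Cfsg.Agent.Lib.helper7.BD.Defs
import Cfsg.Agent.Lib.helper7.BD.D1Defs
import Cfsg.Agent.Lib.helper7.BD.Exist
import Cfsg.Agent.Lib.helper7.BD.UniqG
import Cfsg.Agent.Lib.helper7.R1.Link
import Cfsg.Agent.Lib.helper7.Rob1
import Cfsg.Agent.Lib.Helper10.BDLINKB
import Cfsg.Agent.Lib.Lead.BDINDEP
import Cfsg.Agent.Lib.helper23.BDSETUP1
import Cfsg.Agent.Lib.Helper11.BDTRIV
import Cfsg.Agent.Lib.Helper11.BDFIX
import Cfsg.Agent.Lib.Helper25.CharLinear
import Cfsg.Agent.Lib.Helper16.BD2TINV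
import Cfsg.Agent.Lib.helper4.BDTORTH
import Cfsg.Agent.Lib.helper4.BDCLIFF1
import Cfsg.Agent.Lib.helper4.BDCLIFF2
import Cfsg.Agent.Lib.helper2.BD2TWIST
import Cfsg.Agent.Lib.helper2.BD2TWIRR
import Cfsg.Agent.Lib.helper2.BD2IDNZ
import Cfsg.Agent.Lib.helper2.BD2IDORTH
import Cfsg.Agent.Lib.Helper1.BD2IDCJ
import Cfsg.Agent.Lib.Helper1.BD2BLKCJ
import Cfsg.Agent.Lib.Helper13.BD2ROOTU
import Cfsg.Agent.Lib.Helper25.BDTSTAB
import Cfsg.Agent.Lib.Helper25.BDTSUB
import Cfsg.Agent.Lib.Helper25.BDTGEN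
import Cfsg.Agent.Lib.Helper22.BDMUS
import Cfsg.Agent.Lib.Helper13.BD2UNIQB
import Cfsg.Agent.Lib.Helper13.BD2KEYID
import Cfsg.Agent.Lib.Helper1.BD2PTRIV
import Cfsg.Agent.Lib.Lead.BD2NAGAO2
import Cfsg.Agent.Lib.Helper16.BD2SIMP
import Cfsg.Agent.Lib.Lead.BD2HISO
import Cfsg.Agent.Lib.Helper21.BrAC
import Cfsg.Agent.Lib.Helper24.CyclicInertial3

/-!
# Project BD, stage B, part 1 (assembly): `e = |T : C| ≤ l(B)` for a block of defect one
-/

set_option autoImplicit false
set_option linter.unusedVariables false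
set_option linter.unusedSectionVars false
set_option linter.style.haveILetI false

namespace Cfsg.Agent.Lib.helper7.BD

open Cfsg.Agent.Lib.helper7 Cfsg.Agent.Lib.helper7.Br Cfsg.Agent.Lib.helper7.R1

universe u v w

section subop

variable {F : Type*} [Field F] {G : Type*} [Group G] {S : Type*} [AddCommGroup S] [Module F S]

theorem subOp_eq_act {C N : Subgroup G} (hCN : C ≤ N) [Fintype ↥C] (σ : Representation F ↥N S)
    (a : GA F ↥C) : subOp hCN σ a = bdlinkb_act (σ.comp (Subgroup.inclusion hCN)) a := rfl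

theorem subOp_mul {C N : Subgroup G} (hCN : C ≤ N) [Fintype ↥C] (σ : Representation F ↥N S)
    (a a' : GA F ↥C) : subOp hCN σ (a * a') = subOp hCN σ a ∘ₗ subOp hCN σ a' := by
  rw [subOp_eq_act, subOp_eq_act, subOp_eq_act, bdlinkb_act_mul]
  rfl

theorem subOp_twist {C N : Subgroup G} (hCN : C ≤ N) [Fintype ↥C] (σ : Representation F ↥N S)
    (μ : ↥N →* Fˣ) (hμ : ∀ c : ↥N, (c : G) ∈ C → μ c = 1) (a : ↥C → F) :
    subOp hCN (twistRep σ μ) a = subOp hCN σ a := by
  unfold subOp
  refine Finset.sum_congr rfl fun c _ => ?_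
  rw [twistRep_apply, hμ _ c.2, Units.val_one, one_smul]

/-- a map commuting with the action of `C` commutes with `subOp` -/
theorem subOp_comm {C N : Subgroup G} (hCN : C ≤ N) [Fintype ↥C] (σ τ : Representation F ↥N S)
    (φ : S →ₗ[F] S) (hφ : ∀ c : ↥C, φ ∘ₗ σ (Subgroup.inclusion hCN c) = τ (Subgroup.inclusion hCN c) ∘ₗ φ)
    (a : ↥C → F) : φ ∘ₗ subOp hCN σ a = subOp hCN τ a ∘ₗ φ := by
  unfold subOp
  refine LinearMap.ext fun s => ?_
  simp only [LinearMap.comp_apply, LinearMap.sum_apply, LinearMap.smul_apply, map_sum, map_smul]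
  refine Finset.sum_congr rfl fun c _ => ?_
  have := LinearMap.congr_fun (hφ c) s
  simp only [LinearMap.comp_apply] at this
  rw [this]

end subop

variable {G : Type u} [Group G] [Fintype G] {M : Ideal Cfsg.AlgInt} {p : ℕ} [Fact p.Prime]
  {P : Sylow p G} {B : Set (Cfsg.IrrCharacter G)}
  {b : Set (Cfsg.IrrCharacter (Subgroup.centralizer ((P : Subgroup G) : Set G)))}
  {θ : Cfsg.IrrCharacter (Subgroup.centralizer ((P : Subgroup G) : Set G))} {T : Subgroup G}

/-- LOWER-MOD (assembly) : `e = |T : C| ≤ l(B)` -/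
theorem root_blockRank_ge (h : RootHyp p M P B b θ T) :
    (Subgroup.centralizer ((P : Subgroup G) : Set G)).relIndex T ≤ Cfsg.blockRank p B := by
  classical
  have hM := h.hM
  have hMp := hM.2.1.isPrime
  haveI : IsAlgClosed (h7_resRing M hMp) := Cfsg.Agent.Lib.Helper21.Br.resRing_isAlgClosed hM
  haveI : CharP (h7_resRing M hMp) p := h7_resRing_charP hM
  haveI : Fintype ↥(Subgroup.normalizer ((P : Subgroup G) : Set G)) := Fintype.ofFinite _
  haveI : Fintype ↥(Subgroup.centralizer ((P : Subgroup G) : Set G)) := Fintype.ofFinite _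
  have hCN : Subgroup.centralizer ((P : Subgroup G) : Set G) ≤
      Subgroup.normalizer ((P : Subgroup G) : Set G) :=
    Subgroup.centralizer_le_normalizer ((P : Subgroup G) : Set G)
  have hTI : TISetup p (P : Subgroup G) (Subgroup.normalizer ((P : Subgroup G) : Set G)) :=
    tiSetup_of_sylow p P h.card_P
  obtain ⟨hCT, hTN⟩ := root_C_le_T h
  -- a simple module over `b`
  obtain ⟨S, iAG, iMod, iFD, σ₁, hirr₁, hE₁⟩ := root_exists_simple h hMp
  haveI := hirr₁
  have hb : Cfsg.IsPBlock M b := h.hind.1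
  have hEE : subOp hCN σ₁ (eBar hMp b) ∘ₗ subOp hCN σ₁ (eBar hMp b) = subOp hCN σ₁ (eBar hMp b) := by
    rw [← subOp_mul, (eBar_idem hMp b hb).eq]
  -- Clifford theory
  have hW1 := clifford_simpleUnder σ₁ (subOp hCN σ₁ (eBar hMp b)) hEE hE₁
    (T.subgroupOf (Subgroup.normalizer ((P : Subgroup G) : Set G)))
    (fun t ht => root_blockOp_comm h hMp σ₁ t (Subgroup.mem_subgroupOf.mp ht))
    (fun n hn => root_blockOp_orth h hMp σ₁ n (fun hn' => hn (Subgroup.mem_subgroupOf.mpr hn')))
  obtain ⟨t₀, ht₀, hgen⟩ := root_T_cyclic h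
  have hW2 : SimpleUnder σ₁ ((Subgroup.centralizer ((P : Subgroup G) : Set G)).subgroupOf
      (Subgroup.normalizer ((P : Subgroup G) : Set G)))
      (LinearMap.range (subOp hCN σ₁ (eBar hMp b))) := by
    refine simpleUnder_of_cyclic σ₁ _ (T.subgroupOf (Subgroup.normalizer ((P : Subgroup G) : Set G)))
      ?_ ⟨t₀, hTN ht₀⟩ ?_ ?_ ?_ _ hW1 ?_
    · intro c hc
      exact Subgroup.mem_subgroupOf.mpr (hCT (Subgroup.mem_subgroupOf.mp hc))
    · exact Subgroup.mem_subgroupOf.mpr ht₀
    · intro c hc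
      rw [Subgroup.mem_subgroupOf] at hc ⊢
      have hnorm := Cfsg.Agent.Lib.Helper24.ci_normalizer_le (P : Subgroup G) (hTN ht₀)
      have := (Subgroup.mem_normalizer_iff.mp (Subgroup.inv_mem _ hnorm) (c : G)).mp hc
      simpa using this
    · intro t ht
      obtain ⟨k, c, hc, htc⟩ := hgen (t : G) (Subgroup.mem_subgroupOf.mp ht)
      refine ⟨k, ⟨c, hCN hc⟩, Subgroup.mem_subgroupOf.mpr hc, ?_⟩
      apply Subtype.ext
      rw [htc]
      simp
    · intro X hXW hX
      exact root_twist_iso h hMp σ₁ ⟨t₀, hTN ht₀⟩ ht₀ X hXW hX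
  -- the twists
  obtain ⟨μ, hμC, hμT⟩ := root_exists_twists h hMp
  have hτirr : ∀ i, (twistRep σ₁ (μ i)).IsIrreducible := fun i => twistRep_irreducible σ₁ (μ i)
  have hnp : ∀ i, ¬ IsProjHom (twistRep σ₁ (μ i)) (twistRep σ₁ (μ i)) LinearMap.id := by
    intro i hproj
    obtain ⟨ψ, hψ⟩ := hproj
    haveI := hτirr i
    have hcard : p ∣ Nat.card ((P : Subgroup G).subgroupOf
        (Subgroup.normalizer ((P : Subgroup G) : Set G))) := by
      rw [Nat.card_congr (Subgroup.subgroupOfEquivOfLe hTI.P_le_N).toEquiv, hTI.card_P]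
    have h0 := tr1_eq_zero_of_trivial (p := p) ((P : Subgroup G).subgroupOf
      (Subgroup.normalizer ((P : Subgroup G) : Set G))) hcard (twistRep σ₁ (μ i))
      (fun x hx => sylow_trivial_of_irreducible hTI (twistRep σ₁ (μ i)) x
        (Subgroup.mem_subgroupOf.mp hx)) ψ
    rw [h0] at hψ
    have hnt : Nontrivial S := by
      by_contra hcon
      rw [not_nontrivial_iff_subsingleton] at hcon
      apply hE₁
      exact LinearMap.ext fun s => Subsingleton.elim _ _
    obtain ⟨s, hs⟩ := exists_ne (0 : S)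
    apply hs
    have := LinearMap.congr_fun hψ s
    simpa using this
  choose V iAG' iMod' iFD' ρ hirr f hf hfnp using fun i =>
    exists_simple_over (G := G) (Subgroup.normalizer ((P : Subgroup G) : Set G))
      (twistRep σ₁ (μ i)) (hnp i)
  have hne : ∀ i j, i ≠ j → ¬ IsIso (ρ i) (ρ j) := by
    intro i j hij hiso
    obtain ⟨e, he⟩ := hiso
    haveI := hirr i
    haveI := hτirr i
    haveI := hτirr j
    have hfj : IsHom ((ρ i).comp (Subgroup.normalizer ((P : Subgroup G) : Set G)).subtype)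
        (twistRep σ₁ (μ j)) (f j ∘ₗ (e : V i →ₗ[h7_resRing M hMp] V j)) :=
      (hf j).comp (fun n => he (n : G))
    have hfjnp : ¬ IsProjHom ((ρ i).comp (Subgroup.normalizer ((P : Subgroup G) : Set G)).subtype)
        (twistRep σ₁ (μ j)) (f j ∘ₗ (e : V i →ₗ[h7_resRing M hMp] V j)) := by
      intro hproj
      apply hfnp j
      have hesymm : IsHom ((ρ j).comp (Subgroup.normalizer ((P : Subgroup G) : Set G)).subtype)
          ((ρ i).comp (Subgroup.normalizer ((P : Subgroup G) : Set G)).subtype)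
          (e.symm : V j →ₗ[h7_resRing M hMp] V i) := by
        intro n
        refine LinearMap.ext fun w => ?_
        apply e.injective
        have h1 := LinearMap.congr_fun (he (n : G)) (e.symm w)
        simp only [LinearMap.comp_apply, LinearEquiv.coe_coe, LinearEquiv.apply_symm_apply] at h1 ⊢
        exact h1.symm
      have := hproj.comp_right hesymm
      rw [LinearMap.comp_assoc] at this
      have hid : (e : V i →ₗ[h7_resRing M hMp] V j) ∘ₗ (e.symm : V j →ₗ[h7_resRing M hMp] V i) =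
          LinearMap.id := by
        refine LinearMap.ext fun w => ?_
        simp
      rwa [hid, LinearMap.comp_id] at this
    obtain ⟨φ, hφ⟩ := uniq_simple_target hTI (ρ i) (twistRep σ₁ (μ i)) (twistRep σ₁ (μ j)) (f i)
      (f j ∘ₗ (e : V i →ₗ[h7_resRing M hMp] V j)) (hf i) hfj (hfnp i) hfjnp
    -- `φ` commutes with the block idempotent
    have hφC : ∀ c : ↥(Subgroup.centralizer ((P : Subgroup G) : Set G)),
        (φ : S →ₗ[h7_resRing M hMp] S) ∘ₗ σ₁ (Subgroup.inclusion hCN c) =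
          σ₁ (Subgroup.inclusion hCN c) ∘ₗ (φ : S →ₗ[h7_resRing M hMp] S) := by
      intro c
      have := hφ (Subgroup.inclusion hCN c)
      have hi : μ i (Subgroup.inclusion hCN c) = 1 := hμC i (Subgroup.inclusion hCN c) c.2
      have hj : μ j (Subgroup.inclusion hCN c) = 1 := hμC j (Subgroup.inclusion hCN c) c.2
      simp only [twistRep_apply, hi, hj, Units.val_one, one_smul] at this
      exact this
    have hφE := subOp_comm hCN σ₁ σ₁ (φ : S →ₗ[h7_resRing M hMp] S) hφC (eBar hMp b)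
    have hφW : ∀ w ∈ LinearMap.range (subOp hCN σ₁ (eBar hMp b)),
        φ w ∈ LinearMap.range (subOp hCN σ₁ (eBar hMp b)) := by
      rintro w ⟨s, rfl⟩
      refine ⟨φ s, ?_⟩
      have := LinearMap.congr_fun hφE s
      simp only [LinearMap.comp_apply, LinearEquiv.coe_coe] at this
      exact this.symm
    have hagree := twist_eq_on σ₁ ((Subgroup.centralizer ((P : Subgroup G) : Set G)).subgroupOf
      (Subgroup.normalizer ((P : Subgroup G) : Set G)))
      (T.subgroupOf (Subgroup.normalizer ((P : Subgroup G) : Set G)))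
      (fun c hc => Subgroup.mem_subgroupOf.mpr (hCT (Subgroup.mem_subgroupOf.mp hc)))
      _ hW2 hW1.2.1 (μ i) (μ j)
      (fun c hc => hμC i c (Subgroup.mem_subgroupOf.mp hc))
      (fun c hc => hμC j c (Subgroup.mem_subgroupOf.mp hc)) φ hφ hφW
    obtain ⟨t, htT, hne'⟩ := hμT i j hij
    exact hne' (hagree t (Subgroup.mem_subgroupOf.mpr htT))
  have hblock : ∀ i, ∑ g : G, eBar hMp B g • ρ i g = LinearMap.id := by
    intro i
    haveI := hirr i
    haveI := hτirr i
    have hEi : subOp hCN (twistRep σ₁ (μ i)) (eBar hMp b) ≠ 0 := by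
      have := subOp_twist hCN σ₁ (μ i) (hμC i) (eBar hMp b)
      rw [this]
      exact hE₁
    have hkey := root_brauer_acts_id h hMp (twistRep σ₁ (μ i)) hEi
    have := classfn_acts_general hTI hCN (ρ i) (twistRep σ₁ (μ i)) (f i) (hf i) (hfnp i)
      (fun g => eBar hMp B g) (fun g k => eBar_class hMp B g k) 1 (by rw [hkey, one_smul])
    rw [this, one_smul]
  exact card_le_blockRank hM B h.hB V ρ (trace_linearIndependent V ρ hirr hne) hblock

end Cfsg.Agent.Lib.helper7.BD
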