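import Mathlib
import Cfsg.Agent.Lib.helper7.BD.D1Defs
import Cfsg.Agent.Lib.helper7.BD.D1Defs2
import Cfsg.Agent.Lib.helper7.BD.RootLower
import Cfsg.Agent.Lib.Helper12.BD3REPS
import Cfsg.Agent.Lib.Helper11.BD3TAU
import Cfsg.Agent.Lib.helper23.BD3MULT
import Cfsg.Agent.Lib.helper23.BD3PNDVD
import Cfsg.Agent.Lib.Helper24.BD3B2MT
import Cfsg.Agent.Lib.Helper25.BD3DEG
import Cfsg.Agent.Lib.Helper20.BD3K
import Cfsg.Agent.Lib.Lead.BD3COMB
import Cfsg.Agent.Lib.Helper25.BDTSUB
import Cfsg.Agent.Lib.Helper26.ExcGram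

/-!
# Project BD, stage B : the theorem on blocks of defect one (assembly)

`root_main : RootHyp p M P B b θ T → RootConcl p P B b θ T`
-/

set_option autoImplicit false
set_option linter.unusedVariables false
set_option linter.unusedSectionVars false
set_option linter.style.haveILetI false

namespace Cfsg.Agent.Lib.helper7.BD

open Cfsg.Agent.Lib.helper7

universe u

/-- a sum over a fintype of a function vanishing off `S` is the sum over the subtype -/
theorem sum_eq_sum_subtype {α β : Type*} [Fintype α] [AddCommMonoid β] (S : Set α)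
    [Fintype ↥S] (F : α → β) (hF : ∀ a, a ∉ S → F a = 0) :
    ∑ a, F a = ∑ i : S, F i := by
  classical
  rw [← Finset.sum_subtype (Finset.univ.filter (· ∈ S)) (by simp) F, Finset.sum_filter]
  refine Finset.sum_congr rfl fun a _ => ?_
  split_ifs with ha
  · rfl
  · exact hF a ha

/-- splitting a row sum according to the shape given by `comb_main` -/
theorem row_sum_split {I R : Type*} [Fintype I] [DecidableEq I] [CommRing R] {t : ℕ}
    (c : I → Fin t → ℤ) (X : Finset I) (y : Fin t → I) (ε : I → ℤ)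
    (hyinj : Function.Injective y) (hyX : ∀ j, y j ∉ X) (hcover : ∀ i, i ∈ X ∨ ∃ j, y j = i)
    (hXrow : ∀ i ∈ X, ∀ j, c i j = ε i)
    (hYrow : ∀ j j', c (y j) j' = if j = j' then ε (y j) else 0) (F : I → R) (j : Fin t) :
    ∑ i, ((c i j : ℤ) : R) * F i = ∑ i ∈ X, ((ε i : ℤ) : R) * F i + ((ε (y j) : ℤ) : R) * F (y j) := by
  have hcompl : Xᶜ = Finset.univ.image y := by
    ext i
    simp only [Finset.mem_compl, Finset.mem_image, Finset.mem_univ, true_and]
    constructor
    · intro hi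
      rcases hcover i with h1 | h1
      · exact absurd h1 hi
      · exact h1
    · rintro ⟨j', rfl⟩
      exact hyX j'
  rw [← Finset.sum_add_sum_compl X, hcompl, Finset.sum_image (fun a _ b _ hab => hyinj hab)]
  congr 1
  · refine Finset.sum_congr rfl fun i hi => ?_
    rw [hXrow i hi j]
  · rw [Finset.sum_eq_single j]
    · rw [hYrow j j, if_pos rfl]
    · intro j' _ hj'
      rw [hYrow j' j, if_neg hj', Int.cast_zero, zero_mul]
    · intro hj
      exact absurd (Finset.mem_univ j) hj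

section concl

variable {G : Type u} [Group G] [Fintype G]

/-- the conclusion of the theorem on blocks of defect one, with all the data -/
def RootConcl (p : ℕ) (P : Sylow p G) (B : Set (Cfsg.IrrCharacter G))
    (b : Set (Cfsg.IrrCharacter (Subgroup.centralizer ((P : Subgroup G) : Set G))))
    (θ : Cfsg.IrrCharacter (Subgroup.centralizer ((P : Subgroup G) : Set G))) (T : Subgroup G)
    [Fintype ↥(Subgroup.centralizer ((P : Subgroup G) : Set G))] : Prop :=
  ∃ (t : ℕ) (r : Fin t → Cfsg.IrrCharacter (Subgroup.centralizer ((P : Subgroup G) : Set G)))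
    (X : Set (Cfsg.IrrCharacter G)) (y : Fin t → Cfsg.IrrCharacter G) (ε : Cfsg.IrrCharacter G → ℤ),
    IsReps P b θ T ((Subgroup.centralizer ((P : Subgroup G) : Set G)).relIndex T) t r ∧
    B = X ∪ Set.range y ∧ Disjoint X (Set.range y) ∧
    Nat.card X = (Subgroup.centralizer ((P : Subgroup G) : Set G)).relIndex T ∧
    Function.Injective y ∧
    Nat.card B = (Subgroup.centralizer ((P : Subgroup G) : Set G)).relIndex T + t ∧
    (∀ χ, ε χ = 1 ∨ ε χ = -1) ∧ (∀ j j', ε (y j) = ε (y j')) ∧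
    (∀ χ ∈ X, ∀ j,
      Cfsg.classInner (r j : ↥(Subgroup.centralizer ((P : Subgroup G) : Set G)) → ℂ)
          (fun c : ↥(Subgroup.centralizer ((P : Subgroup G) : Set G)) => (χ : G → ℂ) (c : G)) -
        Cfsg.classInner (θ : ↥(Subgroup.centralizer ((P : Subgroup G) : Set G)) → ℂ)
          (fun c : ↥(Subgroup.centralizer ((P : Subgroup G) : Set G)) => (χ : G → ℂ) (c : G)) =
        ((ε χ : ℤ) : ℂ)) ∧
    (∀ j j',
      Cfsg.classInner (r j' : ↥(Subgroup.centralizer ((P : Subgroup G) : Set G)) → ℂ)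
          (fun c : ↥(Subgroup.centralizer ((P : Subgroup G) : Set G)) => (y j : G → ℂ) (c : G)) -
        Cfsg.classInner (θ : ↥(Subgroup.centralizer ((P : Subgroup G) : Set G)) → ℂ)
          (fun c : ↥(Subgroup.centralizer ((P : Subgroup G) : Set G)) => (y j : G → ℂ) (c : G)) =
        if j = j' then ((ε (y j) : ℤ) : ℂ) else 0) ∧
    (∀ χ ∈ X, (Cfsg.charDegree (χ : G → ℂ) : ℤ) ≡
      - ε χ * (((T.relIndex (Subgroup.normalizer ((P : Subgroup G) : Set G)) *
        Cfsg.charDegree (θ : ↥(Subgroup.centralizer ((P : Subgroup G) : Set G)) → ℂ) : ℕ)) : ℤ)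
        [ZMOD p]) ∧
    (∀ j, (Cfsg.charDegree (y j : G → ℂ) : ℤ) ≡
      ε (y j) * ((((Subgroup.centralizer ((P : Subgroup G) : Set G)).relIndex
          (Subgroup.normalizer ((P : Subgroup G) : Set G)) *
        Cfsg.charDegree (θ : ↥(Subgroup.centralizer ((P : Subgroup G) : Set G)) → ℂ) : ℕ)) : ℤ)
        [ZMOD p]) ∧
    (∀ j, ∀ g : G, ¬ p ∣ orderOf g →
      (∑ᶠ χ ∈ X, ((ε χ : ℤ) : ℂ) * (χ : G → ℂ) g) + ((ε (y j) : ℤ) : ℂ) * (y j : G → ℂ) g = 0)

end concl

section main

variable {G : Type u} [Group G] [Fintype G] {M : Ideal Cfsg.AlgInt} {p : ℕ} [Fact p.Prime]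
  {P : Sylow p G} {B : Set (Cfsg.IrrCharacter G)}
  {b : Set (Cfsg.IrrCharacter (Subgroup.centralizer ((P : Subgroup G) : Set G)))}
  {θ : Cfsg.IrrCharacter (Subgroup.centralizer ((P : Subgroup G) : Set G))} {T : Subgroup G}
  [Fintype ↥(Subgroup.centralizer ((P : Subgroup G) : Set G))]
  [Fintype ↥(Subgroup.normalizer ((P : Subgroup G) : Set G))]

theorem irr_isClassFunction (χ : Cfsg.IrrCharacter G) : Cfsg.IsClassFunction G (χ : G → ℂ) :=
  fun g h => Cfsg.Agent.Lib.Helper25.irr_conj_invariant χ g h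

/-- ROOT-MAIN (assembly) -/
theorem root_main (h : RootHyp p M P B b θ T) : RootConcl p P B b θ T := by
  classical
  haveI : Fintype (Cfsg.IrrCharacter G) := Fintype.ofFinite _
  have hp := (Fact.out : p.Prime)
  obtain ⟨t, r, hr⟩ := root_exists_reps h
  have het := hr.et
  have hp2 : 2 ≤ p := hp.two_le
  have he1 : 1 ≤ (Subgroup.centralizer ((P : Subgroup G) : Set G)).relIndex T := by
    rcases Nat.eq_zero_or_pos ((Subgroup.centralizer ((P : Subgroup G) : Set G)).relIndex T) with h0 | h0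
    · rw [h0, zero_mul] at het
      omega
    · exact h0
  have ht1 : 1 ≤ t := by
    rcases Nat.eq_zero_or_pos t with h0 | h0
    · rw [h0, mul_zero] at het
      omega
    · exact h0
  obtain ⟨τ, hτcl, hτreg, hτgram, hτin⟩ := root_exists_tau h r hr
  choose m hm1 hm2 using fun (χ : Cfsg.IrrCharacter G)
    (ξ : Cfsg.IrrCharacter (Subgroup.centralizer ((P : Subgroup G) : Set G))) =>
      mult_nat (Subgroup.centralizer ((P : Subgroup G) : Set G)) χ ξ
  set c : Cfsg.IrrCharacter G → Fin t → ℤ := fun χ j => (m χ (r j) : ℤ) - (m χ θ : ℤ) with hcdef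
  have hc : ∀ (χ : Cfsg.IrrCharacter G) (j : Fin t), Cfsg.classInner (τ j) (χ : G → ℂ) = ((c χ j : ℤ) : ℂ) := by
    intro χ j
    rw [hτin j (χ : G → ℂ) (irr_isClassFunction χ), hm2, hm2, hcdef]
    push_cast
    rfl
  have hc0 : ∀ (χ : Cfsg.IrrCharacter G), χ ∉ B → ∀ j, c χ j = 0 := by
    intro χ hχ j
    have h1 := root_mult_const h χ hχ (r j) (hr.mem j)
    rw [hm2, hm2] at h1
    have h2 : m χ (r j) = m χ θ := by exact_mod_cast h1
    rw [hcdef]
    simp only [h2, sub_self]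
  have hgramZ : ∀ j j' : Fin t, ∑ χ : Cfsg.IrrCharacter G, c χ j * c χ j' =
      (if j = j' then 1 else 0) +
        (((Subgroup.centralizer ((P : Subgroup G) : Set G)).relIndex T : ℕ) : ℤ) := by
    intro j j'
    have h1 := Cfsg.Agent.Lib.Helper26.exc_parseval_int (τ j) (τ j') (hτcl j) (hτcl j')
      (fun χ => c χ j) (fun χ => c χ j') (fun χ => hc χ j) (fun χ => hc χ j')
    rw [hτgram] at h1
    have h2 : (((if j = j' then (1 : ℤ) else 0) +
        (((Subgroup.centralizer ((P : Subgroup G) : Set G)).relIndex T : ℕ) : ℤ) : ℤ) : ℂ) =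
        ((∑ χ : Cfsg.IrrCharacter G, c χ j * c χ j' : ℤ) : ℂ) := by
      rw [← h1]
      push_cast
      rfl
    exact_mod_cast h2.symm
  -- the degree formula in `ℤ`
  have hdeg : ∀ (χ : Cfsg.IrrCharacter G), χ ∈ B → ∃ k : ℤ,
      (Cfsg.charDegree (χ : G → ℂ) : ℤ) = (p : ℤ) * k +
        (((Subgroup.centralizer ((P : Subgroup G) : Set G)).relIndex
          (Subgroup.normalizer ((P : Subgroup G) : Set G)) : ℕ) : ℤ) *
        (Cfsg.charDegree (θ : ↥(Subgroup.centralizer ((P : Subgroup G) : Set G)) → ℂ) : ℤ) *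
        ∑ j, c χ j := by
    intro χ hχ
    obtain ⟨k, hk⟩ := root_degree h r hr χ hχ
    refine ⟨k, ?_⟩
    have h1 : ∀ j, (Cfsg.classInner (r j : ↥(Subgroup.centralizer ((P : Subgroup G) : Set G)) → ℂ)
          (fun c : ↥(Subgroup.centralizer ((P : Subgroup G) : Set G)) => (χ : G → ℂ) (c : G)) -
        Cfsg.classInner (θ : ↥(Subgroup.centralizer ((P : Subgroup G) : Set G)) → ℂ)
          (fun c : ↥(Subgroup.centralizer ((P : Subgroup G) : Set G)) => (χ : G → ℂ) (c : G))) =
        ((c χ j : ℤ) : ℂ) := by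
      intro j
      rw [hm2, hm2, hcdef]
      push_cast
      rfl
    simp only [h1] at hk
    rw [← (Cfsg.Agent.Lib.Helper25.charDegree_irr χ).1, ← (Cfsg.Agent.Lib.Helper25.charDegree_irr θ).1] at hk
    exact_mod_cast hk
  have hrow : ∀ (χ : Cfsg.IrrCharacter G), χ ∈ B → ∃ j, c χ j ≠ 0 := by
    intro χ hχ
    by_contra hcon
    push_neg at hcon
    obtain ⟨k, hk⟩ := hdeg χ hχ
    simp only [hcon, Finset.sum_const_zero, mul_zero, add_zero] at hk
    apply root_not_dvd h χ hχ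
    have h1 : (p : ℤ) ∣ (Cfsg.charDegree (χ : G → ℂ) : ℤ) := ⟨k, hk⟩
    exact_mod_cast h1
  have hK := root_card_eq h
  have hrank := root_blockRank_ge h
  have htdiv : (p - 1) / (Subgroup.centralizer ((P : Subgroup G) : Set G)).relIndex T = t := by
    rw [← het]
    exact Nat.mul_div_cancel_left t he1
  rw [htdiv] at hK
  haveI : Fintype ↥B := Fintype.ofFinite _
  have hcardI : (Subgroup.centralizer ((P : Subgroup G) : Set G)).relIndex T + t ≤ Fintype.card ↥B := by
    rw [← Nat.card_eq_fintype_card]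
    have : Nat.card ↥B = Nat.card B := rfl
    omega
  have hgramI : ∀ j j' : Fin t, ∑ i : ↥B, c i j * c i j' =
      (if j = j' then 1 else 0) +
        (((Subgroup.centralizer ((P : Subgroup G) : Set G)).relIndex T : ℕ) : ℤ) := by
    intro j j'
    rw [← hgramZ j j']
    symm
    apply sum_eq_sum_subtype B (fun χ => c χ j * c χ j')
    intro χ hχ
    show c χ j * c χ j' = 0
    rw [hc0 χ hχ j, zero_mul]
  obtain ⟨hcardeq, X, y, ε, hXcard, hyinj, hyX, hcover, hεpm, hXrow, hYrow⟩ :=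
    comb_main ((Subgroup.centralizer ((P : Subgroup G) : Set G)).relIndex T) t he1 ht1
      (fun i : ↥B => c i) hgramI (fun i => hrow i i.2) hcardI
  -- multiplicities as `c`
  have hcm : ∀ (χ : Cfsg.IrrCharacter G) (j : Fin t),
      (Cfsg.classInner (r j : ↥(Subgroup.centralizer ((P : Subgroup G) : Set G)) → ℂ)
          (fun c : ↥(Subgroup.centralizer ((P : Subgroup G) : Set G)) => (χ : G → ℂ) (c : G)) -
        Cfsg.classInner (θ : ↥(Subgroup.centralizer ((P : Subgroup G) : Set G)) → ℂ)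
          (fun c : ↥(Subgroup.centralizer ((P : Subgroup G) : Set G)) => (χ : G → ℂ) (c : G))) =
        ((c χ j : ℤ) : ℂ) := by
    intro χ j
    rw [hm2, hm2, hcdef]
    push_cast
    rfl
  -- the data
  set X'' : Finset (Cfsg.IrrCharacter G) := X.map ⟨Subtype.val, Subtype.val_injective⟩ with hX''
  set ε' : Cfsg.IrrCharacter G → ℤ := fun χ => if hχ : χ ∈ B then ε ⟨χ, hχ⟩ else 1 with hε'
  have hε'i : ∀ i : ↥B, ε' (i : Cfsg.IrrCharacter G) = ε i := by
    intro i
    rw [hε']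
    simp only
    rw [dif_pos i.2]
  have hmemX : ∀ χ : Cfsg.IrrCharacter G, χ ∈ (X'' : Set (Cfsg.IrrCharacter G)) ↔
      ∃ i : ↥B, i ∈ X ∧ (i : Cfsg.IrrCharacter G) = χ := by
    intro χ
    rw [Finset.mem_coe, hX'', Finset.mem_map]
    rfl
  -- the sums over `B`
  have hsplitC : ∀ (F : Cfsg.IrrCharacter G → ℂ) (j : Fin t),
      ∑ χ : Cfsg.IrrCharacter G, ((c χ j : ℤ) : ℂ) * F χ =
        (∑ᶠ χ ∈ (X'' : Set (Cfsg.IrrCharacter G)), ((ε' χ : ℤ) : ℂ) * F χ) +
          ((ε' (y j) : ℤ) : ℂ) * F (y j) := by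
    intro F j
    rw [sum_eq_sum_subtype B (fun χ => ((c χ j : ℤ) : ℂ) * F χ)
      (fun χ hχ => by show ((c χ j : ℤ) : ℂ) * F χ = 0; rw [hc0 χ hχ j, Int.cast_zero, zero_mul])]
    rw [row_sum_split (fun i : ↥B => c i) X y ε hyinj hyX hcover hXrow hYrow
      (fun i : ↥B => F i) j]
    rw [finsum_mem_coe_finset, hX'', Finset.sum_map, hε'i]
    congr 1
    refine Finset.sum_congr rfl fun i _ => ?_
    show _ = ((ε' (i : Cfsg.IrrCharacter G) : ℤ) : ℂ) * F i
    rw [hε'i]
  -- the value at `1` : the signs of the exceptional rows agree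
  have hone : ∀ j : Fin t, (∑ i ∈ X, ε i * (Cfsg.charDegree ((i : Cfsg.IrrCharacter G) : G → ℂ) : ℤ)) +
      ε (y j) * (Cfsg.charDegree ((y j : Cfsg.IrrCharacter G) : G → ℂ) : ℤ) = 0 := by
    intro j
    have h1 := Cfsg.Agent.Lib.Helper26.exc_value_one_int (τ j) (hτcl j) (fun χ => c χ j)
      (fun χ => hc χ j)
    rw [hτreg j 1 (by rw [orderOf_one]; exact hp.one_lt.ne' ∘ Nat.dvd_one.mp)] at h1
    have h2 : ∑ χ : Cfsg.IrrCharacter G, c χ j * (Cfsg.charDegree (χ : G → ℂ) : ℤ) = 0 := by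
      exact_mod_cast h1.symm
    rw [sum_eq_sum_subtype B (fun χ => c χ j * (Cfsg.charDegree (χ : G → ℂ) : ℤ))
      (fun χ hχ => by show c χ j * _ = 0; rw [hc0 χ hχ j, zero_mul])] at h2
    have h3 := row_sum_split (R := ℤ) (fun i : ↥B => c i) X y ε hyinj hyX hcover hXrow hYrow
      (fun i : ↥B => (Cfsg.charDegree ((i : Cfsg.IrrCharacter G) : G → ℂ) : ℤ)) j
    simp only [Int.cast_id] at h3
    rw [← h3]
    exact h2
  have hsign : ∀ j j' : Fin t, ε (y j) = ε (y j') := by
    intro j j'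
    have h1 := hone j
    have h2 := hone j'
    have d1 := (Cfsg.Agent.Lib.Helper25.charDegree_irr (y j : Cfsg.IrrCharacter G)).2
    have d2 := (Cfsg.Agent.Lib.Helper25.charDegree_irr (y j' : Cfsg.IrrCharacter G)).2
    have d1' : (0 : ℤ) < (Cfsg.charDegree ((y j : Cfsg.IrrCharacter G) : G → ℂ) : ℤ) := by
      exact_mod_cast d1
    have d2' : (0 : ℤ) < (Cfsg.charDegree ((y j' : Cfsg.IrrCharacter G) : G → ℂ) : ℤ) := by
      exact_mod_cast d2
    rcases hεpm (y j) with e1 | e1 <;> rcases hεpm (y j') with e2 | e2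
    · rw [e1, e2]
    · rw [e1] at h1; rw [e2] at h2; exfalso; linarith
    · rw [e1] at h1; rw [e2] at h2; exfalso; linarith
    · rw [e1, e2]
  obtain ⟨hCT, hTN⟩ := root_C_le_T h
  have hfe := Subgroup.relIndex_mul_relIndex _ _ _ hCT hTN
  refine ⟨t, r, (X'' : Set (Cfsg.IrrCharacter G)), fun j => (y j : Cfsg.IrrCharacter G), ε', hr,
    ?_, ?_, ?_, ?_, ?_, ?_, ?_, ?_, ?_, ?_, ?_, ?_⟩
  · -- B = X ∪ Y
    ext χ
    rw [Set.mem_union, hmemX, Set.mem_range]
    constructor
    · intro hχ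
      rcases hcover ⟨χ, hχ⟩ with h1 | ⟨j, hj⟩
      · exact Or.inl ⟨⟨χ, hχ⟩, h1, rfl⟩
      · exact Or.inr ⟨j, by rw [hj]⟩
    · rintro (⟨i, _, rfl⟩ | ⟨j, rfl⟩)
      · exact i.2
      · exact (y j).2
  · -- disjoint
    rw [Set.disjoint_left]
    intro χ hχ hχ'
    rw [hmemX] at hχ
    obtain ⟨i, hi, rfl⟩ := hχ
    obtain ⟨j, hj⟩ := hχ'
    have : y j = i := Subtype.ext hj
    exact hyX j (this ▸ hi)
  · -- card X
    rw [Nat.card_coe_set_eq, Set.ncard_coe_finset, hX'', Finset.card_map, hXcard]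
  · -- y injective
    exact Subtype.val_injective.comp hyinj
  · -- card B
    rw [← hcardeq, ← Nat.card_eq_fintype_card]
  · -- signs
    intro χ
    rw [hε']
    simp only
    split_ifs with hχ
    · exact hεpm _
    · exact Or.inl rfl
  · intro j j'
    rw [hε'i, hε'i]
    exact hsign j j'
  · -- multiplicities on X
    intro χ hχ j
    rw [hmemX] at hχ
    obtain ⟨i, hi, rfl⟩ := hχ
    rw [hcm, hε'i, hXrow i hi j]
  · -- multiplicities on Y
    intro j j'
    rw [hcm, hε'i, hYrow j j']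
    split_ifs <;> simp
  · -- degrees on X
    intro χ hχ
    rw [hmemX] at hχ
    obtain ⟨i, hi, rfl⟩ := hχ
    obtain ⟨k, hk⟩ := hdeg i i.2
    rw [hε'i, hk]
    have h1 : ∑ j, c i j = (t : ℤ) * ε i := by
      rw [Finset.sum_congr rfl (fun j _ => hXrow i hi j)]
      simp
    have h2 : (((Subgroup.centralizer ((P : Subgroup G) : Set G)).relIndex
          (Subgroup.normalizer ((P : Subgroup G) : Set G)) : ℕ) : ℤ) * (t : ℤ) =
        ((T.relIndex (Subgroup.normalizer ((P : Subgroup G) : Set G)) : ℕ) : ℤ) * ((p : ℤ) - 1) := by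
      have h3 : (Subgroup.centralizer ((P : Subgroup G) : Set G)).relIndex
          (Subgroup.normalizer ((P : Subgroup G) : Set G)) * t =
          T.relIndex (Subgroup.normalizer ((P : Subgroup G) : Set G)) * (p - 1) := by
        rw [← hfe, ← het]
        ring
      have h4 : ((p - 1 : ℕ) : ℤ) = (p : ℤ) - 1 := by
        rw [Nat.cast_sub (by omega)]
        simp
      rw [← h4]
      exact_mod_cast h3
    rw [h1, Int.modEq_iff_dvd]
    refine ⟨- k - ((T.relIndex (Subgroup.normalizer ((P : Subgroup G) : Set G)) : ℕ) : ℤ) *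
      (Cfsg.charDegree (θ : ↥(Subgroup.centralizer ((P : Subgroup G) : Set G)) → ℂ) : ℤ) * ε i, ?_⟩
    push_cast
    linear_combination (- (Cfsg.charDegree (θ : ↥(Subgroup.centralizer ((P : Subgroup G) : Set G)) → ℂ) : ℤ) * ε i) * h2
  · -- degrees on Y
    intro j
    obtain ⟨k, hk⟩ := hdeg (y j) (y j).2
    rw [hε'i, hk]
    have h1 : ∑ j', c (y j) j' = ε (y j) := by
      rw [Finset.sum_congr rfl (fun j' _ => hYrow j j')]
      simp
    rw [h1, Int.modEq_iff_dvd]
    refine ⟨- k, ?_⟩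
    push_cast
    ring
  · -- p-regular elements
    intro j g hg
    have hexp := Cfsg.Agent.Lib.Helper25.classFunction_expansion (τ j) (hτcl j)
    have h1 := congrFun hexp g
    rw [hτreg j g hg, Finset.sum_apply] at h1
    have h2 : ∑ χ : Cfsg.IrrCharacter G, ((c χ j : ℤ) : ℂ) * (χ : G → ℂ) g = 0 := by
      rw [h1]
      refine Finset.sum_congr rfl fun χ _ => ?_
      rw [Pi.smul_apply, smul_eq_mul, hc]
    rw [hsplitC (fun χ => (χ : G → ℂ) g) j] at h2
    exact h2

end main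

end Cfsg.Agent.Lib.helper7.BD
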