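import Mathlib
import Cfsg.Agent.Lib.helper7.BD.CharDefs
import Cfsg.Agent.Lib.helper7.BD.Main0
import Cfsg.Agent.Lib.helper7.BD.CardPrincipal
import Cfsg.Agent.Lib.helper8.Burnside
import Cfsg.Agent.Lib.Helper13.BDCASE1
import Cfsg.Agent.Lib.Helper25.BDCASEMID
import Cfsg.Agent.Lib.helper2.BDCASETOP

/-!
# Project BD : S4441 (final assembly)
-/

set_option autoImplicit false
set_option linter.unusedVariables false
set_option linter.unusedSectionVars false
set_option linter.style.haveILetI false

namespace Cfsg.Agent.Lib.helper7.BD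

open Cfsg.Agent.Lib.helper7

universe u

variable {G : Type u} [Group G] [Fintype G]

/-- S4441 (assembly) -/
theorem s4441_main (p : ℕ) [Fact p.Prime] (M : Ideal Cfsg.AlgInt) (hM : Cfsg.IsPModular p M)
    (hodd : p ≠ 2) (P : Sylow p G) (hP : Nat.card P = p) (e : ℕ)
    (he : (Subgroup.centralizer ((P : Subgroup G) : Set G)).relIndex
      (Subgroup.normalizer ((P : Subgroup G) : Set G)) = e) : Concl4441 p M P e := by
  have hp := (Fact.out : p.Prime)
  have hdvd : e ∣ p - 1 := by
    rw [← he]
    exact Cfsg.Agent.Lib.helper8.h8_relIndex_centralizer_normalizer_dvd_prime p hp (P : Subgroup G) hP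
  have hp2 : 2 ≤ p := hp.two_le
  have hp1 : 0 < p - 1 := by omega
  have hele : e ≤ p - 1 := Nat.le_of_dvd hp1 hdvd
  have he0 : 0 < e := Nat.pos_of_dvd_of_pos hdvd hp1
  have hrank := principal_blockRank_ge p M hM P hP
  have hcard := card_principal_eq p M hM P hP
  rw [he] at hrank hcard
  rcases Nat.lt_or_ge 1 e with h1 | h1
  · rcases Nat.lt_or_ge e (p - 1) with h2 | h2
    · exact concl_of_mid p M hM hodd P hP e he h1 (by omega) (by omega)
    · have hep : e = p - 1 := le_antisymm hele h2
      subst hep
      refine concl_of_e_eq_top p M hM hodd P hP he ?_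
      rw [hcard, Nat.div_self hp1]
      omega
  · have he1 : e = 1 := by omega
    subst he1
    refine concl_of_e_eq_one p M hM hodd P hP he ?_
    rw [hcard, Nat.div_one]

end Cfsg.Agent.Lib.helper7.BD
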