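import Mathlib
import Cfsg.Agent.Lib.helper7.BD.D1Defs3
import Cfsg.Agent.Lib.Helper1.BD5PART
import Cfsg.Agent.Lib.Helper16.BD5FIBSUM
import Cfsg.Agent.Lib.helper4.BD5CANONB
import Cfsg.Agent.Lib.Helper11.BD5FIB

/-!
# Project BD, stage B, wave 5 : the counting formula (assembly)

`|N:C| * #{χ : p ∤ χ(1)} = ∑_{θ canonical} (|T_θ : C|² + p - 1)` for a Sylow `p`-subgroup `P` of order `p`.
-/

set_option autoImplicit false
set_option linter.unusedVariables false
set_option linter.unusedSectionVars false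
set_option linter.style.haveILetI false

namespace Cfsg.Agent.Lib.helper7.BD

open Cfsg.Agent.Lib.helper7

universe u

section root

variable {G : Type u} [Group G] [Fintype G] {M : Ideal Cfsg.AlgInt} {p : ℕ} [Fact p.Prime]

/-- FORMULA (assembly) -/
theorem root_formula (hM : Cfsg.IsPModular p M) (P : Sylow p G) (hP : Nat.card P = p) :
    (Subgroup.centralizer ((P : Subgroup G) : Set G)).relIndex
        (Subgroup.normalizer ((P : Subgroup G) : Set G)) *
      Nat.card {χ : Cfsg.IrrCharacter G // ¬ p ∣ Cfsg.charDegree (χ : G → ℂ)} =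
    ∑ᶠ θ ∈ canonSet P,
      ((Subgroup.centralizer ((P : Subgroup G) : Set G)).relIndex (stabT P θ) ^ 2 + (p - 1)) := by
  classical
  rw [card_pprime_eq_sum_blocks hM P hP]
  rw [finsum_mem_fibres (canonSet P) {B : Set (Cfsg.IrrCharacter G) |
        Cfsg.IsPBlock M B ∧ Cfsg.IsDefectGroup p M B (P : Subgroup G)}
    (fun θ B => Cfsg.IsInducedBlock M (Subgroup.centralizer ((P : Subgroup G) : Set G))
        (Cfsg.blockOf M (θ : ↥(Subgroup.centralizer ((P : Subgroup G) : Set G)) → ℂ)) B)
    (fun θ hθ => canon_exists_block hM P hP θ hθ)]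
  rw [mul_finsum_mem' _ _ (Set.toFinite _)]
  refine finsum_mem_congr rfl fun B hB => ?_
  exact (root_fibre_sum hM P hP B hB.1 hB.2).symm

end root

end Cfsg.Agent.Lib.helper7.BD
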